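import Groth.Agent.Lib.RamSam.GrFree
import Mathlib.Algebra.Category.ModuleCat.Ext.Finite
import Mathlib.RingTheory.HopkinsLevitzki
import Mathlib.RingTheory.Length

/-!
# Maps which are isomorphisms off the closed point, and Ext into modules of high depth
-/

set_option autoImplicit false
set_option linter.style.haveILetI false

universe u

open IsLocalRing CategoryTheory CategoryTheory.Abelian

namespace GrothLib.SGA2Para

variable {S : Type u} [CommRing S] [IsLocalRing S]

/-- Killed off the closed point. -/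
def Killed (S : Type u) [CommRing S] [IsLocalRing S] (N : Type u) [AddCommGroup N] [Module S N] : Prop :=
  ∀ P : Ideal S, P.IsPrime → P ≠ maximalIdeal S → ∀ x : N, ∃ s ∉ P, s • x = 0

/-- `Ext` into `G` below degree `n` from finite modules killed off the closed point vanishes. -/
def Van (G : Type u) [AddCommGroup G] [Module S G] (n : ℕ) : Prop :=
  ∀ (N : Type u) [AddCommGroup N] [Module S N] [Module.Finite S N], Killed S N → ∀ i < n,
    Subsingleton (Ext (ModuleCat.of S N) (ModuleCat.of S G) i)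

/-- A finite module killed by a power of the maximal ideal has finite length. -/
theorem isFiniteLength_of_pow_le_annihilator [IsNoetherianRing S] (M : Type u) [AddCommGroup M] [Module S M]
    [Module.Finite S M] (n : ℕ) (h : maximalIdeal S ^ n ≤ Module.annihilator S M) : IsFiniteLength S M := by
  let J : Ideal S := maximalIdeal S ^ (n + 1)
  have hJ : J ≤ maximalIdeal S := Ideal.pow_le_self (Nat.succ_ne_zero n)
  haveI : Nontrivial (S ⧸ J) := Ideal.Quotient.nontrivial_iff.2 fun h' =>
    (maximalIdeal.isMaximal S).ne_top (top_le_iff.1 (h'.ge.trans hJ))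
  haveI : IsLocalRing (S ⧸ J) := IsLocalRing.of_surjective' _ Ideal.Quotient.mk_surjective
  haveI : IsArtinianRing (S ⧸ J) := by
    rw [isArtinianRing_iff_isNilpotent_maximalIdeal]
    refine ⟨n + 1, ?_⟩
    rw [← IsLocalRing.map_maximalIdeal_of_surjective (Ideal.Quotient.mk J) Ideal.Quotient.mk_surjective,
      ← Ideal.map_pow]
    exact Ideal.map_quotient_self J
  have hle : J ≤ Module.annihilator S M := (Ideal.pow_le_pow_right n.le_succ).trans h
  have htors : Module.IsTorsionBySet S M J := fun x a => Module.mem_annihilator.1 (hle a.2) x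
  letI := htors.module
  haveI : IsScalarTower S (S ⧸ J) M := htors.isScalarTower
  haveI : Module.Finite (S ⧸ J) M := Module.Finite.of_restrictScalars_finite S (S ⧸ J) M
  rw [← Module.length_ne_top_iff,
    Module.length_eq_of_surjective (M := M) (Ideal.Quotient.mk_surjective : Function.Surjective (algebraMap S (S ⧸ J)))]
  exact Module.length_ne_top

/-- A linear map with kernel and cokernel killed off the closed point. -/
def UIso {N N' : Type u} [AddCommGroup N] [Module S N] [AddCommGroup N'] [Module S N'] (u : N →ₗ[S] N') : Prop :=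
  ∀ P : Ideal S, P.IsPrime → P ≠ maximalIdeal S →
    (∀ x, u x = 0 → ∃ s ∉ P, s • x = 0) ∧ ∀ y, ∃ s ∉ P, ∃ x, u x = s • y

theorem Van.mono {G : Type u} [AddCommGroup G] [Module S G] {m n : ℕ} (h : Van (S := S) G n) (hmn : m ≤ n) :
    Van (S := S) G m := fun N _ _ _ hN i hi => h N hN i (lt_of_lt_of_le hi hmn)

theorem van_of_depth [IsNoetherianRing S] (G : Type u) [AddCommGroup G] [Module S G] [Module.Finite S G] {n : ℕ}
    (hG : (n : ℕ∞) ≤ LocCoh.depth S G) : Van (S := S) G n := fun N _ _ _ hN i hi =>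
  RamSam.subsingleton_ext_of_killed G hG N hN i hi

theorem van_of_exact {G₁ G G₂ : Type u} [AddCommGroup G₁] [Module S G₁] [AddCommGroup G] [Module S G]
    [AddCommGroup G₂] [Module S G₂] (f : G₁ →ₗ[S] G) (g : G →ₗ[S] G₂) (hf : Function.Injective f)
    (hg : Function.Surjective g) (h : Function.Exact f g) {n : ℕ} (h₁ : Van (S := S) G₁ n)
    (h₂ : Van (S := S) G₂ n) : Van (S := S) G n := by
  intro N _ _ _ hN i hi
  refine subsingleton_of_forall_eq 0 fun e => ?_
  obtain ⟨x, rfl⟩ := Ext.covariant_sequence_exact₂ (ModuleCat.of S N) (RamSam.shortExact_mk f g hf hg h) e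
    (@Subsingleton.elim _ (h₂ N hN i hi) _ _)
  rw [@Subsingleton.elim _ (h₁ N hN i hi) x 0]
  exact Ext.zero_comp (ModuleCat.of S N) _ _ _ _

variable {N N' : Type u} [AddCommGroup N] [Module S N] [AddCommGroup N'] [Module S N']

theorem UIso.killed_ker {u : N →ₗ[S] N'} (h : UIso u) : Killed S (LinearMap.ker u) := fun P hP hne x => by
  obtain ⟨s, hs, hsx⟩ := (h P hP hne).1 x.1 x.2
  exact ⟨s, hs, Subtype.ext hsx⟩

theorem UIso.killed_coker {u : N →ₗ[S] N'} (h : UIso u) : Killed S (N' ⧸ LinearMap.range u) := fun P hP hne x => by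
  obtain ⟨y, rfl⟩ := Submodule.Quotient.mk_surjective _ x
  obtain ⟨s, hs, z, hz⟩ := (h P hP hne).2 y
  exact ⟨s, hs, by rw [← Submodule.Quotient.mk_smul, Submodule.Quotient.mk_eq_zero]; exact ⟨z, hz⟩⟩

theorem UIso.comp {N'' : Type u} [AddCommGroup N''] [Module S N''] {u : N →ₗ[S] N'} {v : N' →ₗ[S] N''}
    (hu : UIso u) (hv : UIso v) : UIso (v.comp u) := fun P hP hne => by
  refine ⟨fun x hx => ?_, fun y => ?_⟩
  · obtain ⟨s, hs, hsx⟩ := (hv P hP hne).1 (u x) hx
    obtain ⟨t, ht, htx⟩ := (hu P hP hne).1 (s • x) (by rw [map_smul, hsx])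
    exact ⟨t * s, fun h => (hP.mem_or_mem h).elim ht hs, by rw [mul_smul, htx]⟩
  · obtain ⟨s, hs, z, hz⟩ := (hv P hP hne).2 y
    obtain ⟨t, ht, x, hx⟩ := (hu P hP hne).2 z
    exact ⟨t * s, fun h => (hP.mem_or_mem h).elim ht hs, x, by
      rw [LinearMap.comp_apply, hx, map_smul, hz, smul_smul]⟩

variable [IsNoetherianRing S] [Module.Finite S N] [Module.Finite S N']

/-- A map vanishing on a finite module killed off the closed point, into a module of positive depth. -/
theorem eq_zero_of_killed {G : Type u} [AddCommGroup G] [Module S G] (hG : Van (S := S) G 1)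
    (hN : Killed S N) (f : N →ₗ[S] G) : f = 0 := by
  haveI := hG N hN 0 Nat.zero_lt_one
  have : ModuleCat.ofHom f = 0 :=
    (Ext.addEquiv₀ (X := ModuleCat.of S N) (Y := ModuleCat.of S G)).subsingleton_congr.1 inferInstance |>.elim _ _
  exact congrArg ModuleCat.Hom.hom this

/-- Extending from a submodule with cokernel killed off the closed point. -/
theorem exists_extend {G : Type u} [AddCommGroup G] [Module S G] (hG : Van (S := S) G 2)
    (I : Submodule S N') (hI : Killed S (N' ⧸ I)) (f : I →ₗ[S] G) : ∃ F : N' →ₗ[S] G, ∀ x : I, F x = f x := by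
  have hsc := RamSam.shortExact_mk I.subtype I.mkQ (Submodule.injective_subtype I) (Submodule.mkQ_surjective I)
    (LinearMap.exact_subtype_mkQ I)
  obtain ⟨x₂, hx₂⟩ := Ext.contravariant_sequence_exact₁ hsc (ModuleCat.of S G) (Ext.mk₀ (ModuleCat.ofHom f))
    (n₁ := 1) rfl (@Subsingleton.elim _ (hG _ hI 1 Nat.one_lt_two) _ _)
  obtain ⟨F, rfl⟩ : ∃ F : ModuleCat.of S N' ⟶ ModuleCat.of S G, Ext.mk₀ F = x₂ :=
    ⟨Ext.homEquiv₀ x₂, Ext.mk₀_homEquiv₀_apply x₂⟩
  have h := (Ext.mk₀_bijective _ _).1 ((Ext.mk₀_comp_mk₀ (ModuleCat.ofHom I.subtype) F).symm.trans hx₂)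
  exact ⟨F.hom, fun x => congrArg (fun g : ModuleCat.of S I ⟶ ModuleCat.of S G => g x) h⟩

theorem precomp_bijective {G : Type u} [AddCommGroup G] [Module S G] (hG : Van (S := S) G 2)
    {u : N →ₗ[S] N'} (hu : UIso u) : Function.Bijective fun f : N' →ₗ[S] G => f.comp u := by
  refine ⟨fun f g hfg => sub_eq_zero.1 ?_, fun f => ?_⟩
  · have hle : LinearMap.range u ≤ LinearMap.ker (f - g) := by
      rintro _ ⟨x, rfl⟩
      exact LinearMap.mem_ker.2 (sub_eq_zero.2 (LinearMap.congr_fun hfg x))
    have h0 := eq_zero_of_killed (hG.mono one_le_two) hu.killed_coker ((LinearMap.range u).liftQ (f - g) hle)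
    exact LinearMap.ext fun y => LinearMap.congr_fun h0 (Submodule.Quotient.mk y)
  · have h0 := eq_zero_of_killed (hG.mono one_le_two) hu.killed_ker (f.comp (LinearMap.ker u).subtype)
    have hle : LinearMap.ker u ≤ LinearMap.ker f := fun x hx => LinearMap.congr_fun h0 ⟨x, hx⟩
    obtain ⟨F, hF⟩ := exists_extend hG (LinearMap.range u) hu.killed_coker
      (((LinearMap.ker u).liftQ f hle).comp u.quotKerEquivRange.symm.toLinearMap)
    refine ⟨F, LinearMap.ext fun x => ?_⟩
    show F (u x) = f x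
    rw [hF ⟨u x, x, rfl⟩]
    show (LinearMap.ker u).liftQ f hle (u.quotKerEquivRange.symm _) = _
    rw [LinearMap.quotKerEquivRange_symm_apply_image]
    rfl

/-- Pullback of extensions along a `UIso` is surjective. -/
theorem ext_precomp_surjective {G : Type u} [AddCommGroup G] [Module S G] (hG : Van (S := S) G 3)
    {u : N →ₗ[S] N'} (hu : UIso u) (e : Ext (ModuleCat.of S N) (ModuleCat.of S G) 1) :
    ∃ e' : Ext (ModuleCat.of S N') (ModuleCat.of S G) 1,
      (Ext.mk₀ (ModuleCat.ofHom u)).comp e' (zero_add 1) = e := by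
  have h₁ := RamSam.shortExact_mk (LinearMap.ker u).subtype u.rangeRestrict (Submodule.injective_subtype _)
    u.surjective_rangeRestrict (fun x => ⟨fun h => ⟨⟨x, LinearMap.mem_ker.2 (congrArg Subtype.val h)⟩, rfl⟩,
      fun ⟨z, hz⟩ => hz ▸ Subtype.ext (LinearMap.mem_ker.1 z.2)⟩)
  obtain ⟨x₃, hx₃⟩ := Ext.contravariant_sequence_exact₂ h₁ (ModuleCat.of S G) e
    (@Subsingleton.elim _ (hG _ hu.killed_ker 1 (by norm_num)) _ _)
  let I := LinearMap.range u
  have h₂ := RamSam.shortExact_mk I.subtype I.mkQ (Submodule.injective_subtype I) (Submodule.mkQ_surjective I)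
    (LinearMap.exact_subtype_mkQ I)
  obtain ⟨x₂, hx₂⟩ := Ext.contravariant_sequence_exact₁ h₂ (ModuleCat.of S G) x₃ (n₁ := 2) rfl
    (@Subsingleton.elim _ (hG _ hu.killed_coker 2 (by norm_num)) _ _)
  refine ⟨x₂, ?_⟩
  rw [← hx₃, ← hx₂]
  refine Eq.trans ?_ (Ext.mk₀_comp_mk₀_assoc (ModuleCat.ofHom u.rangeRestrict) (ModuleCat.ofHom I.subtype) x₂).symm
  rfl

/-- An element killing the identity up to a factorisation through the ring kills `Ext¹` into the ring. -/
theorem exists_smul_ext_eq_zero {m : N} {s : S} (h : RamSam.GenAt m s) :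
    ∃ k : ℕ, ∀ e : Ext (ModuleCat.of S N) (ModuleCat.of S S) 1, s ^ k • e = 0 := by
  obtain ⟨φ, k, hφ⟩ := RamSam.exists_functional h
  obtain ⟨K, hK⟩ := RamSam.exists_uniform h
  refine ⟨K + k, fun e => ?_⟩
  let g : S →ₗ[S] N := LinearMap.toSpanSingleton S N (s ^ K • m)
  have hfac : s ^ (K + k) • 𝟙 (ModuleCat.of S N) = ModuleCat.ofHom φ ≫ ModuleCat.ofHom g := by
    refine ModuleCat.hom_ext (LinearMap.ext fun x => ?_)
    show s ^ (K + k) • x = φ x • (s ^ K • m)
    obtain ⟨c, hc⟩ := hK x
    have h2 : s ^ K * φ x = c * s ^ k := by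
      have := congrArg φ hc
      simpa [map_smul, hφ] using this
    rw [smul_smul, mul_comm (φ x), h2, mul_comm c, mul_smul, ← hc, smul_smul, ← pow_add, add_comm k K]
  haveI : Projective (ModuleCat.of S S) := (IsProjective.iff_projective (R := S) S).1 inferInstance
  rw [LC.smul_eq_mk₀_comp, hfac, ← Ext.mk₀_comp_mk₀_assoc, Ext.eq_zero_of_projective ((Ext.mk₀ (ModuleCat.ofHom g)).comp e (zero_add 1)),
    Ext.comp_zero]

/-- `Ext¹` into the ring from a module free of rank one off the closed point has finite length. -/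
theorem length_ext_ne_top (h : RamSam.GenPunct S N) :
    Module.length S (Ext (ModuleCat.of S N) (ModuleCat.of S S) 1) ≠ ⊤ := by
  classical
  let C := Ext (ModuleCat.of S N) (ModuleCat.of S S) 1
  let 𝔞 := Module.annihilator S C
  have hle : maximalIdeal S ≤ 𝔞.radical := by
    rw [Ideal.radical_eq_sInf]
    refine le_sInf fun P hP => ?_
    by_cases hne : P = maximalIdeal S
    · exact hne.ge
    · exfalso
      obtain ⟨m, s, hs, hm⟩ := h P hP.2 hne
      obtain ⟨k, hk⟩ := exists_smul_ext_eq_zero hm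
      exact hs (hP.2.mem_of_pow_mem k (hP.1 (Module.mem_annihilator.2 hk)))
  obtain ⟨n, hn⟩ := Ideal.exists_pow_le_of_le_radical_of_fg hle (IsNoetherian.noetherian _)
  haveI : Module.Finite S C := inferInstance
  rw [Module.length_ne_top_iff]
  exact isFiniteLength_of_pow_le_annihilator C n hn

end GrothLib.SGA2Para
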