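import Groth.Agent.Lib.RamSam.ModuleTriv
import Groth.Agent.Lib.RamSam.PullPunct
import Groth.Agent.Lib.SGA2Para.UIso
import Groth.Agent.Lib.Punctured.TildeSections
import Groth.Agent.Lib.PicH1.Thick
import Groth.Agent.Lib.PicThick26.Artinian
import Groth.Agent.Lib.UnitsThick26.FlatIdeal
import Groth.Agent.Lib.UnitsThick26.Vanish
import Groth.Prelude.Def_PicGrp

/-!
# Modules on punctured spectra of infinitesimal thickenings
-/

set_option autoImplicit false
set_option linter.style.haveILetI false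
set_option backward.isDefEq.respectTransparency false

universe u

open CategoryTheory CategoryTheory.Limits AlgebraicGeometry TopologicalSpace Opposite
open scoped TensorProduct

namespace GrothLib.SGA2Para

variable {S : Type u} [CommRing S] [IsLocalRing S]

/-- Points of the punctured spectrum. -/
theorem mem_puncturedSpec_iff (x : Spec (CommRingCat.of S)) :
    x ∈ FEt.puncturedSpec S ↔ x.asIdeal ≠ IsLocalRing.maximalIdeal S := by
  show x ∉ ({IsLocalRing.closedPoint S} : Set (PrimeSpectrum S)) ↔ _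
  exact not_congr (Set.mem_singleton_iff.trans PrimeSpectrum.ext_iff)

/-- The two descriptions of the punctured spectrum agree. -/
theorem puncturedOpen_eq : LocCoh.puncturedOpen S (IsLocalRing.maximalIdeal S) = FEt.puncturedSpec S := by
  refine Opens.ext (Set.ext fun x => ?_)
  rw [SetLike.mem_coe, SetLike.mem_coe, mem_puncturedSpec_iff]
  show ¬ (IsLocalRing.maximalIdeal S : Set S) ⊆ x.asIdeal ↔ _
  refine not_congr ⟨fun h => ?_, fun h => h ▸ subset_rfl⟩
  exact ((IsLocalRing.maximalIdeal.isMaximal S).eq_of_le x.isPrime.ne_top h).symm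

/-- Punctured spectra form a pullback square along a closed immersion of local schemes. -/
theorem exists_isPullback_punctured {L : Type u} [CommRing L] [IsLocalRing L] (φ : S →+* L)
    (hφ : Function.Surjective φ) :
    ∃ j : (FEt.puncturedSpec L : Scheme.{u}) ⟶ (FEt.puncturedSpec S : Scheme.{u}),
      IsPullback j (FEt.puncturedSpec L).ι (FEt.puncturedSpec S).ι (Spec.map (CommRingCat.ofHom φ)) ∧
        IsClosedImmersion j := by
  haveI : IsClosedImmersion (Spec.map (CommRingCat.ofHom φ)) := IsClosedImmersion.spec_of_surjective _ hφ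
  let g := (FEt.puncturedSpec S).ι
  let p := pullback.snd g (Spec.map (CommRingCat.ofHom φ))
  have hrange : Set.range (FEt.puncturedSpec L).ι = Set.range p := by
    rw [Scheme.Opens.range_ι]
    ext y
    rw [Scheme.Pullback.range_snd, Set.mem_preimage, Scheme.Opens.range_ι]
    show y ≠ IsLocalRing.closedPoint L ↔ PrimeSpectrum.comap φ y ≠ IsLocalRing.closedPoint S
    haveI hloc : IsLocalHom φ := IsLocalHom.of_surjective φ hφ
    rw [← IsLocalRing.comap_closedPoint φ]
    exact (PrimeSpectrum.comap_injective_of_surjective φ hφ).ne_iff.symm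
  let e := IsOpenImmersion.isoOfRangeEq (FEt.puncturedSpec L).ι p hrange
  have H : IsPullback (e.hom ≫ pullback.fst g _) (FEt.puncturedSpec L).ι g (Spec.map (CommRingCat.ofHom φ)) :=
    (IsPullback.of_hasPullback g _).of_iso e.symm (Iso.refl _) (Iso.refl _) (Iso.refl _)
      (by simp) (by simp [e, p]) (by simp) (by simp)
  exact ⟨_, H, MorphismProperty.of_isPullback H.flip inferInstance⟩

variable [IsNoetherianRing S]

/-- Vanishing of `H²` of the structure sheaf of the punctured spectrum in depth at least four. -/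
theorem subsingleton_H2_punctured (hd : (4 : ℕ∞) ≤ LocCoh.depth S S) :
    Subsingleton (Coh.HH (FEt.puncturedSpec S : Scheme.{u}) (Coh.structureModule _) 2) := by
  have e : (Punctured.puncFun (IsLocalRing.maximalIdeal S)).obj (ModuleCat.of (CommRingCat.of S) (CommRingCat.of S)) ≅
      Coh.structureModule (↑(LocCoh.puncturedOpen S (IsLocalRing.maximalIdeal S)) : Scheme.{u}) :=
    (Scheme.Modules.restrictFunctor (LocCoh.puncturedOpen S (IsLocalRing.maximalIdeal S)).ι).mapIso tildeSelf ≪≫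
      Scheme.Modules.restrictUnitIso _
  obtain ⟨f⟩ := Punctured.nonempty_HH_equiv_of_iso (IsLocalRing.maximalIdeal S) _ _ e 1
  have h3 : Subsingleton (LocCoh.H (IsLocalRing.maximalIdeal S) 3 S) :=
    (Depth.le_idealDepth_iff_H (IsLocalRing.maximalIdeal S) (M := S) 4).1 hd 3 (by norm_num)
  have h2 := @Equiv.subsingleton _ _ f.toEquiv h3
  let i := IsOpenImmersion.isoOfRangeEq (FEt.puncturedSpec S).ι
    (LocCoh.puncturedOpen S (IsLocalRing.maximalIdeal S)).ι
    (by rw [Scheme.Opens.range_ι, Scheme.Opens.range_ι, puncturedOpen_eq])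
  exact PicThick26.subsingleton_HH_structure_of_iso i.hom 2 h2

/-- An invertible module on the punctured spectrum is given by a finite module free of rank one there. -/
theorem exists_genPunct_presentation (L : (FEt.puncturedSpec S : Scheme.{u}).Modules) (hL : PicF.IsInvertible L) :
    ∃ (M : Type u) (_ : AddCommGroup M) (_ : Module S M) (_ : Module.Finite S M), RamSam.GenPunct S M ∧
      Nonempty ((Scheme.Modules.restrictFunctor (FEt.puncturedSpec S).ι).obj
        (tilde (R := CommRingCat.of S) (ModuleCat.of (CommRingCat.of S) M)) ≅ L) := by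
  haveI : IsNoetherianRing (CommRingCat.of S) := inferInstanceAs (IsNoetherianRing S)
  let U := FEt.puncturedSpec S
  haveI : IsLocallyNoetherian (U : Scheme.{u}) := isLocallyNoetherian_of_isOpenImmersion U.ι
  obtain ⟨M, hMf, ⟨e⟩⟩ := Punctured.exists_finite_restrict_tilde_iso U L (Euler.isCoh_of_isInvertible hL)
  have hN : PicF.IsInvertible ((Scheme.Modules.restrictFunctor U.ι).obj (tilde M)) :=
    ParaPair.isInvertible_of_iso e hL
  letI : Module S M := inferInstanceAs (Module (CommRingCat.of S) M)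
  refine ⟨M, inferInstance, inferInstance, hMf, fun P hP hne => ?_, ⟨e⟩⟩
  let y : (U : Scheme.{u}) := ⟨⟨P, hP⟩, (mem_puncturedSpec_iff ⟨P, hP⟩).2 hne⟩
  obtain ⟨V, ε, hyV, hε⟩ := ParaPair.isInvertible_iff.1 hN y
  obtain ⟨_, ⟨s, rfl⟩, hys, hsV⟩ := PrimeSpectrum.isTopologicalBasis_basic_opens.exists_subset_of_mem_open
    (show y.1 ∈ ((U.ι ''ᵁ V : (Spec (CommRingCat.of S)).Opens) : Set _) from ⟨y, hyV, rfl⟩) (U.ι ''ᵁ V).isOpen
  let D : (Spec (CommRingCat.of S)).Opens := PrimeSpectrum.basicOpen s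
  let W : (U : Scheme.{u}).Opens := U.ι ⁻¹ᵁ D
  have hWV : W ≤ V := fun w hw => by
    obtain ⟨v, hv, hvw⟩ := hsV (show w.1 ∈ _ from hw)
    exact (Subtype.ext hvw : v = w) ▸ hv
  have hWD : U.ι ''ᵁ W = D := by
    refine le_antisymm (U.ι.image_preimage_le D) fun z hz => ?_
    obtain ⟨v, hv, rfl⟩ := hsV hz
    exact ⟨v, hz, rfl⟩
  have key : ∀ (V₁ : (Spec (CommRingCat.of S)).Opens), U.ι ''ᵁ W = V₁ → ∃ e₁ : Γ(tilde M, V₁),
      Function.Bijective fun c : Γ(Spec (CommRingCat.of S), V₁) => c • e₁ := by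
    rintro _ rfl
    refine ⟨InvExt.mres ((Scheme.Modules.restrictFunctor U.ι).obj (tilde M)) hWV ε, ?_⟩
    exact (Function.Bijective.of_comp_iff
      (f := fun c : Γ(Spec (CommRingCat.of S), U.ι ''ᵁ W) => c •
        (show Γ(tilde M, U.ι ''ᵁ W) from InvExt.mres ((Scheme.Modules.restrictFunctor U.ι).obj (tilde M)) hWV ε))
      (ConcreteCategory.bijective_of_isIso (U.ι.appIso W).inv)).1 (hε W hWV)
  obtain ⟨e₁, he₁⟩ := key D hWD
  obtain ⟨m, hm⟩ := RamSam.exists_genAt M s e₁ he₁
  exact ⟨m, s, hys, hm⟩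

/-- Tilde of a quotient, restricted to the smaller punctured spectrum, is the pullback. -/
theorem nonempty_pullback_restrict_iso (J : Ideal S) [IsLocalRing (S ⧸ J)]
    (g : (FEt.puncturedSpec (S ⧸ J) : Scheme.{u}) ⟶ (FEt.puncturedSpec S : Scheme.{u}))
    (hg : g ≫ (FEt.puncturedSpec S).ι =
      (FEt.puncturedSpec (S ⧸ J)).ι ≫ Spec.map (CommRingCat.ofHom (Ideal.Quotient.mk J)))
    (M : Type u) [AddCommGroup M] [Module S M] :
    Nonempty ((Scheme.Modules.restrictFunctor (FEt.puncturedSpec (S ⧸ J)).ι).obj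
        (tilde (R := CommRingCat.of (S ⧸ J)) (ModuleCat.of (CommRingCat.of (S ⧸ J)) (M ⧸ J • (⊤ : Submodule S M)))) ≅
      (Scheme.Modules.pullback g).obj ((Scheme.Modules.restrictFunctor (FEt.puncturedSpec S).ι).obj
        (tilde (R := CommRingCat.of S) (ModuleCat.of (CommRingCat.of S) M)))) := by
  let U := FEt.puncturedSpec S
  let U₀ := FEt.puncturedSpec (S ⧸ J)
  let φ : CommRingCat.of S ⟶ CommRingCat.of (S ⧸ J) := CommRingCat.ofHom (Ideal.Quotient.mk J)
  let N : ModuleCat.{u} (CommRingCat.of S) := ModuleCat.of (CommRingCat.of S) M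
  let e₁ : ((S ⧸ J) ⊗[S] M) ≃ₗ[S ⧸ J] M ⧸ J • (⊤ : Submodule S M) :=
    (TensorProduct.quotTensorEquivQuotSMul M J).extendScalarsOfSurjective Ideal.Quotient.mk_surjective
  let e₂ : (ModuleCat.extendScalars φ.hom).obj N ≅
      ModuleCat.of (CommRingCat.of (S ⧸ J)) (M ⧸ J • (⊤ : Submodule S M)) := LinearEquiv.toModuleIso e₁
  exact ⟨(Scheme.Modules.restrictFunctor U₀.ι).mapIso ((tilde.functor _).mapIso e₂.symm) ≪≫
    (Scheme.Modules.restrictFunctorIsoPullback U₀.ι).app _ ≪≫
    (Scheme.Modules.pullback U₀.ι).mapIso ((GenCover.pullTildeIso φ).app N).symm ≪≫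
    (Scheme.Modules.pullbackComp U₀.ι (Spec.map φ)).app _ ≪≫
    (Scheme.Modules.pullbackCongr hg.symm).app _ ≪≫
    ((Scheme.Modules.pullbackComp g U.ι).app _).symm ≪≫
    (Scheme.Modules.pullback g).mapIso ((Scheme.Modules.restrictFunctorIsoPullback U.ι).app _).symm⟩

/-- The sections over the punctured spectrum of the sheaf of a module. -/
noncomputable abbrev Sec (Q : Type u) [AddCommGroup Q] [Module S Q] : ModuleCat.{u} (CommRingCat.of S) :=
  (Punctured.secP (ModuleCat.of (CommRingCat.of S) Q)).obj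
    (op ((FEt.puncturedSpec S).ι ''ᵁ ⊤ : (Spec (CommRingCat.of S)).Opens))

/-- Sections over an open containing `D(g)` agree with the module up to powers of `g`. -/
theorem toOpen_upto_pow {R : CommRingCat.{u}} [IsNoetherianRing R] (E : ModuleCat.{u} R) (g : R)
    {V : (Spec R).Opens} (hgV : (PrimeSpectrum.basicOpen g : (Spec R).Opens) ≤ V) :
    (∀ x : E, tilde.toOpen E V x = 0 → ∃ j : ℕ, g ^ j • x = 0) ∧
      ∀ z, ∃ (n : ℕ) (x : E), tilde.toOpen E V x = g ^ n • z := by
  have hres : ∀ x : E, (Punctured.secP E).map (homOfLE hgV).op (tilde.toOpen E V x) =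
      tilde.toOpen E (PrimeSpectrum.basicOpen g) x :=
    fun x => ConcreteCategory.congr_hom (tilde.toOpen_res E V _ (homOfLE hgV)) x
  refine ⟨fun x hx => ?_, fun z => ?_⟩
  · have h0 : tilde.toOpen E (PrimeSpectrum.basicOpen g) x = 0 := by
      rw [← hres]
      exact (congrArg ((Punctured.secP E).map (homOfLE hgV).op).hom hx).trans (map_zero _)
    obtain ⟨⟨_, j, rfl⟩, hj⟩ := (IsLocalizedModule.eq_zero_iff (.powers g)
      (tilde.toOpen E (PrimeSpectrum.basicOpen g)).hom).mp h0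
    exact ⟨j, hj⟩
  · obtain ⟨⟨x, ⟨_, n, rfl⟩⟩, hx⟩ := IsLocalizedModule.surj (.powers g)
      (tilde.toOpen E (PrimeSpectrum.basicOpen g)).hom ((Punctured.secP E).map (homOfLE hgV).op z)
    have h0 : (Punctured.secP E).map (homOfLE hgV).op (g ^ n • z - tilde.toOpen E V x) = 0 := by
      refine (map_sub ((Punctured.secP E).map (homOfLE hgV).op).hom _ _).trans (sub_eq_zero.2 ?_)
      exact ((map_smul ((Punctured.secP E).map (homOfLE hgV).op).hom _ _).trans hx).trans (hres x).symm
    obtain ⟨N, hN⟩ := Punctured.exists_pow_smul_eq_zero_of_res E g hgV _ h0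
    rw [smul_sub, sub_eq_zero, smul_smul, ← pow_add] at hN
    exact ⟨N + n, g ^ N • x, (map_smul (tilde.toOpen E V).hom (g ^ N) x).trans hN.symm⟩

/-- A morphism of restricted modules is linear over the base ring on sections. -/
theorem app_smul_restrict {R : CommRingCat.{u}} {U : (Spec R).Opens} {M N : (Spec R).Modules}
    (f : (Scheme.Modules.restrictFunctor U.ι).obj M ⟶ (Scheme.Modules.restrictFunctor U.ι).obj N)
    (c : R) (x : Γ(M, U.ι ''ᵁ ⊤)) :
    (show Γ(N, U.ι ''ᵁ ⊤) from f.app ⊤ (c • x)) = c • (show Γ(N, U.ι ''ᵁ ⊤) from f.app ⊤ x) := by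
  obtain ⟨c', hc'⟩ := (ConcreteCategory.bijective_of_isIso (U.ι.appIso ⊤).inv).2
    (algebraMap R Γ(Spec R, U.ι ''ᵁ ⊤) c)
  rw [← IsScalarTower.algebraMap_smul Γ(Spec R, U.ι ''ᵁ ⊤) c x,
    ← IsScalarTower.algebraMap_smul Γ(Spec R, U.ι ''ᵁ ⊤) c (show Γ(N, U.ι ''ᵁ ⊤) from f.app ⊤ x), ← hc']
  exact Scheme.Modules.Hom.app_smul f c' x

/-- A module maps to its sections over the punctured spectrum by a map which is an isomorphism there. -/
theorem uiso_toOpen (Q : Type u) [AddCommGroup Q] [Module S Q] :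
    UIso (S := S) (tilde.toOpen (ModuleCat.of (CommRingCat.of S) Q)
      ((FEt.puncturedSpec S).ι ''ᵁ ⊤ : (Spec (CommRingCat.of S)).Opens)).hom := by
  haveI : IsNoetherianRing (CommRingCat.of S) := inferInstanceAs (IsNoetherianRing S)
  let E := ModuleCat.of (CommRingCat.of S) Q
  let V : (Spec (CommRingCat.of S)).Opens := (FEt.puncturedSpec S).ι ''ᵁ ⊤
  intro P hP hne
  obtain ⟨g, hgm, hgP⟩ := SetLike.not_le_iff_exists.1
    (fun h => hne ((IsLocalRing.maximalIdeal.isMaximal S).eq_of_le hP.ne_top h).symm)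
  have hgV : (PrimeSpectrum.basicOpen g : (Spec (CommRingCat.of S)).Opens) ≤ V := fun x hx => by
    refine ⟨⟨x, (mem_puncturedSpec_iff x).2 fun h => hx ?_⟩, trivial, rfl⟩
    rw [show x.asIdeal = _ from h]
    exact hgm
  obtain ⟨h1, h2⟩ := toOpen_upto_pow E g hgV
  refine ⟨fun x hx => ?_, fun z => ?_⟩
  · obtain ⟨j, hj⟩ := h1 x hx
    exact ⟨g ^ j, fun h => hgP (hP.mem_of_pow_mem j h), hj⟩
  · obtain ⟨n, x, hx⟩ := h2 z
    exact ⟨g ^ n, fun h => hgP (hP.mem_of_pow_mem _ h), x, hx⟩

omit [IsNoetherianRing S] in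
/-- A morphism of restricted sheaves acts linearly on sections over the punctured spectrum. -/
theorem exists_secMap {P Q : Type u} [AddCommGroup P] [Module S P] [AddCommGroup Q] [Module S Q]
    (Θ : (Scheme.Modules.restrictFunctor (FEt.puncturedSpec S).ι).obj
        (tilde (R := CommRingCat.of S) (ModuleCat.of (CommRingCat.of S) P)) ≅
      (Scheme.Modules.restrictFunctor (FEt.puncturedSpec S).ι).obj
        (tilde (R := CommRingCat.of S) (ModuleCat.of (CommRingCat.of S) Q))) :
    ∃ θ : Sec (S := S) P →ₗ[S] Sec (S := S) Q, Function.Bijective θ := by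
  exact ⟨{ toFun := fun x => Θ.hom.app ⊤ x
           map_add' := fun x y => map_add (Θ.hom.app ⊤).hom x y
           map_smul' := fun c x => app_smul_restrict Θ.hom c x },
    ZClosure.app_bijective_of_isIso Θ.hom ⊤⟩

/-- Isomorphic sheaves on the punctured spectrum give modules isomorphic there. -/
theorem exists_uiso_pair {P Q : Type u} [AddCommGroup P] [Module S P] [AddCommGroup Q] [Module S Q]
    (Θ : (Scheme.Modules.restrictFunctor (FEt.puncturedSpec S).ι).obj
        (tilde (R := CommRingCat.of S) (ModuleCat.of (CommRingCat.of S) P)) ≅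
      (Scheme.Modules.restrictFunctor (FEt.puncturedSpec S).ι).obj
        (tilde (R := CommRingCat.of S) (ModuleCat.of (CommRingCat.of S) Q))) :
    ∃ (v : P →ₗ[S] Sec (S := S) Q) (w : Q →ₗ[S] Sec (S := S) Q), UIso v ∧ UIso w := by
  obtain ⟨θ, hθ⟩ := exists_secMap Θ
  refine ⟨θ.comp (tilde.toOpen (ModuleCat.of (CommRingCat.of S) P) _).hom,
    (tilde.toOpen (ModuleCat.of (CommRingCat.of S) Q) _).hom, (uiso_toOpen P).comp ?_, uiso_toOpen Q⟩
  intro P' hP' _
  exact ⟨fun x hx => ⟨1, hP'.one_notMem, by rw [one_smul]; exact hθ.1 (hx.trans (map_zero θ).symm)⟩,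
    fun y => ⟨1, hP'.one_notMem, (hθ.2 y).choose, by rw [one_smul]; exact (hθ.2 y).choose_spec⟩⟩

/-- Lifting a module free of rank one off the closed point along a square-zero thickening. -/
theorem exists_lift_genPunct (J : Ideal S) [IsLocalRing (S ⧸ J)] (σ : S) (hJ : J = Ideal.span {σ})
    (hσ : σ * σ = 0) {B : Type u} [CommRing B] [IsLocalRing B] [IsNoetherianRing B] (ψ : S →+* B)
    (hψ : Function.Surjective ψ) (hann : ∀ a, a ∈ RingHom.ker ψ ↔ a * σ = 0)
    (hd : (4 : ℕ∞) ≤ LocCoh.depth B B) (D : Type u) [AddCommGroup D] [Module (S ⧸ J) D]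
    [Module.Finite (S ⧸ J) D] (hD : RamSam.GenPunct (S ⧸ J) D) :
    ∃ (N : Type u) (_ : AddCommGroup N) (_ : Module S N) (_ : Module.Finite S N), RamSam.GenPunct S N ∧
      ∃ (v : (N ⧸ J • (⊤ : Submodule S N)) →ₗ[S ⧸ J] Sec (S := S ⧸ J) D) (w : D →ₗ[S ⧸ J] Sec (S := S ⧸ J) D),
        UIso v ∧ UIso w := by
  haveI : IsNoetherianRing (CommRingCat.of S) := inferInstanceAs (IsNoetherianRing S)
  let φ := Ideal.Quotient.mk J
  obtain ⟨j, H, hj⟩ := exists_isPullback_punctured φ Ideal.Quotient.mk_surjective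
  obtain ⟨j₀, H₀, hj₀⟩ := exists_isPullback_punctured ψ hψ
  have hker : RingHom.ker φ = Ideal.span {σ} := Ideal.mk_ker.trans hJ
  have hsq : UnitsThick26.IsSqZero j :=
    UnitsThick26.isSqZero_of_isPullback H Ideal.Quotient.mk_surjective hker hσ
  obtain ⟨d⟩ := UnitsThick26.nonempty_H_kerMod_equiv H Ideal.Quotient.mk_surjective hker H₀ hψ hann 2
  have hk : Subsingleton (Sheaf.H.{u} (Coh.toAb (UnitsThick26.kerMod j)) 2) :=
    @Equiv.subsingleton _ _ d.toEquiv (subsingleton_H2_punctured hd)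
  let L₀ := (Scheme.Modules.restrictFunctor (FEt.puncturedSpec (S ⧸ J)).ι).obj
    (tilde (R := CommRingCat.of (S ⧸ J)) (ModuleCat.of (CommRingCat.of (S ⧸ J)) D))
  obtain ⟨b, ⟨L, rfl, hL⟩, hb⟩ := PicH1.exists_pullCl_eq j (PicH1.pull_surjective_of_H2 hsq hk)
    (a := PicF.cl L₀) ⟨L₀, rfl, RamSam.isInvertible_restrict_tilde D hD⟩
  obtain ⟨eL⟩ : Nonempty ((Scheme.Modules.pullback j).obj L ≅ L₀) := (PicGrp.cl_eq_cl_iff _ _).1 hb
  obtain ⟨N, _, _, _, hN, ⟨e⟩⟩ := exists_genPunct_presentation L hL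
  refine ⟨N, inferInstance, inferInstance, inferInstance, hN, ?_⟩
  obtain ⟨i⟩ := nonempty_pullback_restrict_iso J j H.w N
  exact exists_uiso_pair (i ≪≫ (Scheme.Modules.pullback j).mapIso e ≪≫ eL)

end GrothLib.SGA2Para
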