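import Groth.Agent.Lib.SGA2Para.Hypersurface
import Groth.Agent.Lib.Depth.Ischebeck
import Groth.Agent.Lib.Depth.Local
import Groth.Agent.Lib.Depth.CM
import Groth.Agent.Lib.CMFree.FiniteFlat
import Groth.Agent.Lib.AdicExtra.Completion
import Groth.Agent.Lib.AdicExtra.Complete
import Groth.Agent.Lib.AdicLim.Finite
import Groth.Agent.Lib.CMMor6.Mor
import Groth.Agent.S0564
import Groth.Agent.S2834
import Groth.Agent.S2821
import Groth.Agent.S2865
import Mathlib.RingTheory.Regular.Flat

/-!
# Complete intersections of dimension at least four are parafactorial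
-/

set_option autoImplicit false
set_option linter.style.haveILetI false

universe u

open IsLocalRing RingTheory.Sequence

namespace GrothLib.SGA2Para

/-- Depth of a quotient of a regular local ring by a regular sequence. -/
theorem le_depth_of_ci (R : Type u) [CommRing R] [IsRegularLocalRing R] (rs : List R)
    (hm : ∀ r ∈ rs, r ∈ maximalIdeal R) (hw : IsWeaklyRegular R rs) (A : Type u) [CommRing A] [IsLocalRing A]
    [IsNoetherianRing A] (π : R →+* A) (hπ : Function.Surjective π) (hker : RingHom.ker π = Ideal.ofList rs)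
    (n : ℕ) (hn : (n : WithBot ℕ∞) ≤ ringKrullDim A) : (n : ℕ∞) ≤ LocCoh.depth A A := by
  letI := π.toAlgebra
  let e : (R ⧸ Ideal.ofList rs) ≃+* A :=
    (Ideal.quotEquivOfEq hker.symm).trans (RingHom.quotientKerEquivOfSurjective hπ)
  have hreg : IsRegular R rs := (IsLocalRing.isRegular_iff_isWeaklyRegular_of_subset_maximalIdeal hm).2 hw
  have h1 := ringKrullDim_add_length_eq_ringKrullDim_of_isRegular rs hreg
  rw [ringKrullDim_eq_of_ringEquiv e] at h1
  obtain ⟨l, hl, hlm, hlen⟩ := CMFree.exists_weaklyRegular_of_isRegularLocalRing R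
  have hnl : n + rs.length ≤ l.length := by
    have h : ((n + rs.length : ℕ) : WithBot ℕ∞) ≤ (l.length : WithBot ℕ∞) := by
      push_cast
      calc (n : WithBot ℕ∞) + rs.length ≤ ringKrullDim A + rs.length := add_le_add hn le_rfl
        _ = l.length := by rw [h1, hlen]
    exact_mod_cast h
  have hne : maximalIdeal R • (⊤ : Submodule R R) ≠ ⊤ := by
    rw [smul_eq_mul, Ideal.mul_top]
    exact (maximalIdeal.isMaximal R).ne_top
  have hR : ((n + rs.length : ℕ) : ℕ∞) ≤ LocCoh.idealDepth (maximalIdeal R) R :=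
    le_trans (by exact_mod_cast hnl) ((Depth.le_idealDepth_iff_exists _ hne _).2 ⟨l, rfl, hlm, hl⟩)
  rw [Depth.idealDepth_ofList (maximalIdeal R) rs hm R hw, Nat.cast_add,
    ENat.add_le_add_iff_right (ENat.natCast_ne_top _)] at hR
  have hsurj : Function.Surjective (Algebra.linearMap R A) := hπ
  have hker' : LinearMap.ker (Algebra.linearMap R A) = Ideal.ofList rs • (⊤ : Submodule R R) := by
    rw [smul_eq_mul, Ideal.mul_top, ← hker]
    rfl
  let eA : (R ⧸ (Ideal.ofList rs • (⊤ : Submodule R R))) ≃ₗ[R] A :=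
    (Submodule.quotEquivOfEq _ _ hker'.symm).trans ((Algebra.linearMap R A).quotKerEquivOfSurjective hsurj)
  haveI : Module.Finite R A := Module.Finite.equiv eA
  rw [LocCoh.depth, ← IsLocalRing.map_maximalIdeal_of_surjective π hπ, show π = algebraMap R A from rfl,
    Depth.idealDepth_map_eq, ← Depth.idealDepth_eq_of_equiv (maximalIdeal R) eA]
  exact hR

/-- A prime containing a curve prime properly is the closed point. -/
theorem ringKrullDim_quotient_le_one {A : Type u} [CommRing A] [IsLocalRing A] [IsNoetherianRing A] {t : A}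
    (htm : t ∈ maximalIdeal A) {P : Ideal A} [P.IsPrime] (hP : IsCurvePrime t P) :
    Ring.KrullDimLE 1 (A ⧸ P) := by
  haveI : IsDomain (A ⧸ P) := (Ideal.Quotient.isDomain_iff_prime P).2 inferInstance
  refine Ring.krullDimLE_one_iff_of_noZeroDivisors.2 fun q hq hqp => ?_
  let p := q.comap (Ideal.Quotient.mk P)
  haveI : p.IsPrime := inferInstance
  have hPp : P < p := by
    refine lt_of_le_of_ne (fun x hx => ?_) fun he => hq ?_
    · rw [Ideal.mem_comap, Ideal.Quotient.eq_zero_iff_mem.2 hx]
      exact zero_mem q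
    · rw [← Ideal.map_comap_of_surjective _ Ideal.Quotient.mk_surjective q, show q.comap _ = P from he.symm,
        Ideal.map_quotient_self]
  by_cases hpm : p = maximalIdeal A
  · haveI : p.IsMaximal := hpm ▸ maximalIdeal.isMaximal A
    have := Ideal.map_eq_top_or_isMaximal_of_surjective (Ideal.Quotient.mk P) Ideal.Quotient.mk_surjective
      (I := p) inferInstance
    rw [Ideal.map_comap_of_surjective _ Ideal.Quotient.mk_surjective] at this
    exact this.resolve_left hqp.ne_top
  · exact absurd hP (not_isCurvePrime_of_lt htm hPp hpm)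

/-- Depth at a curve prime. -/
theorem le_depth_localization {A : Type u} [CommRing A] [IsLocalRing A] [IsNoetherianRing A] {t : A}
    (htm : t ∈ maximalIdeal A) {P : Ideal A} [P.IsPrime] (hP : IsCurvePrime t P) (n : ℕ)
    (hd : ((n + 1 : ℕ) : ℕ∞) ≤ LocCoh.depth A A) :
    (n : ℕ∞) ≤ LocCoh.depth (Localization.AtPrime P) (Localization.AtPrime P) := by
  have hdim : Module.supportDim A (A ⧸ P) ≤ ((1 : ℕ) : WithBot ℕ∞) := by
    haveI := ringKrullDim_quotient_le_one htm hP
    rw [Module.supportDim_quotient_eq_ringKrullDim]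
    exact Ring.krullDimLE_iff.1 inferInstance
  have h1 : (n : ℕ∞) ≤ LocCoh.idealDepth P A :=
    (Depth.le_idealDepth_iff_ext P n).2 fun i hi =>
      Depth.subsingleton_ext_of_dim_le A 1 (A ⧸ P) hdim i
        (lt_of_lt_of_le (by exact_mod_cast Nat.succ_lt_succ hi) hd)
  exact h1.trans ((Depth.idealDepth_le_localization P P le_rfl).trans (Depth.depth_localization_self P).le)

/-- Parafactoriality passes along isomorphisms. -/
theorem isParafactorial_of_ringEquiv {A B : Type u} [CommRing A] [CommRing B] [IsNoetherianRing A] [IsLocalRing A]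
    [IsNoetherianRing B] [IsLocalRing B] (e : A ≃+* B) (hB : ParaF.IsParafactorialLocalRing B) :
    ParaF.IsParafactorialLocalRing A := by
  letI := e.toRingHom.toAlgebra
  haveI : IsLocalHom (algebraMap A B) := IsLocalHom.of_surjective _ e.surjective
  haveI : Module.Flat A B := RingHom.Flat.of_bijective e.bijective
  refine Groth.Agent.S2865.result A B ?_ hB
  rw [show (maximalIdeal A).map (algebraMap A B) = maximalIdeal B from
    IsLocalRing.map_maximalIdeal_of_surjective (algebraMap A B) e.surjective]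
  exact ringKrullDim_eq_zero_of_isField ((Ideal.Quotient.maximal_ideal_iff_isField_quotient _).1 inferInstance)

/-- The inductive statement. -/
def ParaCI (r : ℕ) : Prop :=
  ∀ (R : Type u) [CommRing R] [IsRegularLocalRing R] (rs : List R), rs.length = r →
    (∀ x ∈ rs, x ∈ maximalIdeal R) → IsWeaklyRegular R rs →
    ∀ (A : Type u) [CommRing A] [IsLocalRing A] [IsNoetherianRing A] (π : R →+* A),
      Function.Surjective π → RingHom.ker π = Ideal.ofList rs → (4 : WithBot ℕ∞) ≤ ringKrullDim A →
      ParaF.IsParafactorialLocalRing A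

theorem paraCI_zero : ParaCI.{u} 0 := by
  intro R _ _ rs hlen _ _ A _ _ _ π hπ hker hdim
  rw [List.length_eq_zero_iff] at hlen
  subst hlen
  rw [Ideal.ofList_nil] at hker
  let e := RingEquiv.ofBijective π ⟨(RingHom.injective_iff_ker_eq_bot π).2 hker, hπ⟩
  haveI : IsRegularLocalRing A := IsRegularLocalRing.of_ringEquiv e
  obtain ⟨hd, hu⟩ := Groth.Agent.S2821.result A
  exact Groth.Agent.S2834.result A hu (le_trans (by norm_num) hdim)

/-- The step, over a complete regular local ring. -/
theorem paraCI_complete {r : ℕ} (ih : ParaCI.{u} r) (R : Type u) [CommRing R] [IsRegularLocalRing R]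
    [IsAdicComplete (maximalIdeal R) R] (rs : List R) (x : R) (hlen : rs.length = r)
    (hm : ∀ y ∈ rs ++ [x], y ∈ maximalIdeal R) (hw : IsWeaklyRegular R (rs ++ [x]))
    (A : Type u) [CommRing A] [IsLocalRing A] [IsNoetherianRing A] (π : R →+* A)
    (hπ : Function.Surjective π) (hker : RingHom.ker π = Ideal.ofList (rs ++ [x]))
    (hdim : (4 : WithBot ℕ∞) ≤ ringKrullDim A) : ParaF.IsParafactorialLocalRing A := by
  let I : Ideal R := Ideal.ofList rs
  have hrs : ∀ y ∈ rs, y ∈ maximalIdeal R := fun y hy => hm y (List.mem_append_left _ hy)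
  have hxm : x ∈ maximalIdeal R := hm x (List.mem_append_right _ (List.mem_singleton_self x))
  haveI : IsLocalRing (R ⧸ I) := isLocalRing_quotient I (Ideal.span_le.2 hrs)
  let A' := R ⧸ I
  let t : A' := Ideal.Quotient.mk I x
  have htm : t ∈ maximalIdeal A' := by
    rw [← IsLocalRing.map_maximalIdeal_of_surjective _ Ideal.Quotient.mk_surjective]
    exact Ideal.mem_map_of_mem _ hxm
  haveI : IsLocalRing (A' ⧸ Ideal.span {t}) := isLocalRing_quotient _ ((Ideal.span_singleton_le_iff_mem _).2 htm)
  obtain ⟨hw', hx⟩ := (isWeaklyRegular_append_iff R rs [x]).1 hw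
  have ht : IsSMulRegular A' t := by
    rw [isWeaklyRegular_singleton_iff, isSMulRegular_quotient_iff_mem_of_smul_mem] at hx
    intro a b hab
    obtain ⟨a, rfl⟩ := Ideal.Quotient.mk_surjective a
    obtain ⟨b, rfl⟩ := Ideal.Quotient.mk_surjective b
    have h : x • (a - b) ∈ (Ideal.ofList rs • ⊤ : Submodule R R) := by
      rw [smul_eq_mul, smul_eq_mul, Ideal.mul_top, mul_sub]
      exact Ideal.Quotient.eq.1 hab
    have h2 := hx (a - b) h
    rw [smul_eq_mul, Ideal.mul_top] at h2
    exact Ideal.Quotient.eq.2 h2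
  let π₂ : R →+* A' ⧸ Ideal.span {t} := (Ideal.Quotient.mk _).comp (Ideal.Quotient.mk I)
  have hπ₂ : Function.Surjective π₂ := Ideal.Quotient.mk_surjective.comp Ideal.Quotient.mk_surjective
  have hker₂ : RingHom.ker π₂ = Ideal.ofList (rs ++ [x]) := by
    show RingHom.ker ((Ideal.Quotient.mk (Ideal.span {t})).comp (Ideal.Quotient.mk I)) = _
    rw [← RingHom.comap_ker, Ideal.mk_ker, show Ideal.span {t} = (Ideal.span {x}).map (Ideal.Quotient.mk I) by
      rw [Ideal.map_span, Set.image_singleton], Ideal.comap_map_of_surjective _ Ideal.Quotient.mk_surjective,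
      ← RingHom.ker_eq_comap_bot, Ideal.mk_ker, Ideal.ofList_append, Ideal.ofList_singleton, sup_comm]
  let e : A ≃+* A' ⧸ Ideal.span {t} :=
    (RingHom.quotientKerEquivOfSurjective hπ).symm.trans
      ((Ideal.quotEquivOfEq (hker.trans hker₂.symm)).trans (RingHom.quotientKerEquivOfSurjective hπ₂))
  refine isParafactorial_of_ringEquiv e ?_
  rw [ringKrullDim_eq_of_ringEquiv e] at hdim
  have hd : (4 : ℕ∞) ≤ LocCoh.depth (A' ⧸ Ideal.span {t}) (A' ⧸ Ideal.span {t}) :=
    le_depth_of_ci R _ hm hw _ π₂ hπ₂ hker₂ 4 (by exact_mod_cast hdim)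
  haveI hc : IsAdicComplete (maximalIdeal A') A' := by
    rw [← IsLocalRing.map_maximalIdeal_of_surjective _ (Ideal.Quotient.mk_surjective (I := I)),
      ← Ideal.Quotient.algebraMap_eq, IsAdicComplete.map_algebraMap_iff]
    exact AdicLim.isAdicComplete_of_finite (maximalIdeal R) A'
  haveI : IsAdicComplete (Ideal.span {t}) A' :=
    AdicExtra.isAdicComplete_of_le ((Ideal.span_singleton_le_iff_mem _).2 htm) (Submodule.fg_span_singleton t)
  have hdimA' : (4 : WithBot ℕ∞) ≤ ringKrullDim A' :=
    hdim.trans (ringKrullDim_le_of_surjective _ Ideal.Quotient.mk_surjective)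
  have hA' : ParaF.IsParafactorialLocalRing A' :=
    ih R rs hlen hrs hw' A' (Ideal.Quotient.mk I) Ideal.Quotient.mk_surjective Ideal.mk_ker hdimA'
  have hd5 : ((4 + 1 : ℕ) : ℕ∞) ≤ LocCoh.depth A' A' := by
    refine le_depth_of_ci R rs hrs hw' A' (Ideal.Quotient.mk I) Ideal.Quotient.mk_surjective Ideal.mk_ker _ ?_
    rw [← ringKrullDim_quotient_span_singleton_succ_eq_ringKrullDim ht htm]
    push_cast
    exact le_trans (by norm_num) (add_le_add hdim le_rfl)
  refine isParafactorial_quotient ht htm hd (fun P _ hP => ?_) hA'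
  have hdP : (4 : ℕ∞) ≤ LocCoh.depth (Localization.AtPrime P) (Localization.AtPrime P) :=
    le_depth_localization htm hP 4 hd5
  refine ⟨le_trans (by norm_num) hdP, ?_⟩
  let q : Ideal R := P.comap (Ideal.Quotient.mk I)
  haveI : IsRegularLocalRing (Localization.AtPrime q) := Groth.Agent.S0564.result R q
  have hT : Submonoid.map (Ideal.Quotient.mk I) q.primeCompl = P.primeCompl := by
    refine SetLike.ext fun a => ?_
    constructor
    · rintro ⟨b, hb, rfl⟩
      exact hb
    · intro ha
      obtain ⟨b, rfl⟩ := Ideal.Quotient.mk_surjective a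
      exact ⟨b, ha, rfl⟩
  let πq : Localization.AtPrime q →+* Localization.AtPrime P :=
    IsLocalization.map (M := q.primeCompl) (T := P.primeCompl) (Localization.AtPrime P) (Ideal.Quotient.mk I)
      (fun b hb => hb)
  have hsurj : Function.Surjective πq := by
    haveI : IsLocalization (q.primeCompl.map (Ideal.Quotient.mk I)) (Localization.AtPrime P) := by
      rw [hT]; infer_instance
    exact IsLocalization.map_surjective_of_surjective _ _ _ Ideal.Quotient.mk_surjective
  have hkerq : RingHom.ker πq = Ideal.ofList (rs.map (algebraMap R (Localization.AtPrime q))) := by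
    rw [← Ideal.map_ofList (algebraMap R (Localization.AtPrime q)) rs]
    exact (IsLocalization.ker_map (S := Localization.AtPrime q) (Localization.AtPrime P) _ hT).trans
      (by rw [Ideal.mk_ker])
  have hmq : ∀ y ∈ rs.map (algebraMap R (Localization.AtPrime q)), y ∈ maximalIdeal (Localization.AtPrime q) := by
    intro y hy
    obtain ⟨z, hz, rfl⟩ := List.mem_map.1 hy
    rw [IsLocalization.AtPrime.to_map_mem_maximal_iff (Localization.AtPrime q) q z]
    show Ideal.Quotient.mk I z ∈ P
    rw [Ideal.Quotient.eq_zero_iff_mem.2 (show z ∈ I from Ideal.subset_span hz)]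
    exact zero_mem P
  haveI : Module.Flat R (Localization.AtPrime q) := IsLocalization.flat _ q.primeCompl
  refine ih (Localization.AtPrime q) _ (by rw [List.length_map, hlen]) hmq hw'.of_flat _ πq hsurj hkerq ?_
  calc (4 : WithBot ℕ∞) = ((4 : ℕ∞) : WithBot ℕ∞) := rfl
    _ ≤ (LocCoh.depth (Localization.AtPrime P) (Localization.AtPrime P) : WithBot ℕ∞) := WithBot.coe_le_coe.2 hdP
    _ ≤ _ := CMFree.depth_le_ringKrullDim _

theorem paraCI_succ {r : ℕ} (ih : ParaCI.{u} r) : ParaCI.{u} (r + 1) := by
  intro R _ _ rs hlen hm hw A _ _ _ π hπ hker hdim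
  let I : Ideal R := Ideal.ofList rs
  haveI : IsLocalRing (R ⧸ I) := isLocalRing_quotient I (Ideal.span_le.2 hm)
  refine isParafactorial_of_ringEquiv ((Ideal.quotEquivOfEq hker.symm).trans
    (RingHom.quotientKerEquivOfSurjective hπ)).symm ?_
  rw [← ringKrullDim_eq_of_ringEquiv ((Ideal.quotEquivOfEq hker.symm).trans
    (RingHom.quotientKerEquivOfSurjective hπ))] at hdim
  let R' := AdicCompletion (maximalIdeal R) R
  haveI : IsRegularLocalRing R' := AdicExtra.isRegularLocalRing_adicCompletion_iff.1 inferInstance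
  haveI : IsAdicComplete (maximalIdeal R') R' := by
    rw [AdicCompletion.maximalIdeal_eq_map]
    exact AdicCompletion.isAdicComplete_self _ (IsNoetherian.noetherian _)
  let ρ : R →+* R' := algebraMap R R'
  have hρm : (maximalIdeal R).map ρ = maximalIdeal R' := AdicCompletion.maximalIdeal_eq_map.symm
  let I' : Ideal R' := I.map ρ
  have hI' : I' = Ideal.ofList (rs.map ρ) := Ideal.map_ofList ρ rs
  have hm' : ∀ y ∈ rs.map ρ, y ∈ maximalIdeal R' := by
    intro y hy
    obtain ⟨z, hz, rfl⟩ := List.mem_map.1 hy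
    exact hρm ▸ Ideal.mem_map_of_mem ρ (hm z hz)
  have hw' : IsWeaklyRegular R' (rs.map ρ) := hw.of_flat
  haveI : IsLocalRing (R' ⧸ I') :=
    isLocalRing_quotient I' (hI' ▸ Ideal.span_le.2 hm')
  haveI : Module.Flat (R ⧸ I) (R' ⧸ I') := CMMor6.flat_quotient I
  have hmap : (maximalIdeal (R ⧸ I)).map (algebraMap (R ⧸ I) (R' ⧸ I')) = maximalIdeal (R' ⧸ I') := by
    rw [← IsLocalRing.map_maximalIdeal_of_surjective (Ideal.Quotient.mk I) Ideal.Quotient.mk_surjective,
      ← IsLocalRing.map_maximalIdeal_of_surjective (Ideal.Quotient.mk I') Ideal.Quotient.mk_surjective,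
      ← hρm, Ideal.map_map, Ideal.map_map]
    rfl
  haveI : IsLocalHom (algebraMap (R ⧸ I) (R' ⧸ I')) :=
    ((local_hom_TFAE (algebraMap (R ⧸ I) (R' ⧸ I'))).out 0 2 rfl rfl).2 hmap.le
  refine Groth.Agent.S2865.result (R ⧸ I) (R' ⧸ I') (by
    rw [hmap]
    exact ringKrullDim_eq_zero_of_isField ((Ideal.Quotient.maximal_ideal_iff_isField_quotient _).1 inferInstance)) ?_
  have hdim' : (4 : WithBot ℕ∞) ≤ ringKrullDim (R' ⧸ I') := by
    have h1 := ringKrullDim_add_length_eq_ringKrullDim_of_isRegular rs
      ((IsLocalRing.isRegular_iff_isWeaklyRegular_of_subset_maximalIdeal hm).2 hw)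
    have h2 := ringKrullDim_add_length_eq_ringKrullDim_of_isRegular (rs.map ρ)
      ((IsLocalRing.isRegular_iff_isWeaklyRegular_of_subset_maximalIdeal hm').2 hw')
    rw [← ringKrullDim_eq_of_ringEquiv (Ideal.quotEquivOfEq hI'), AdicExtra.ringKrullDim_adicCompletion, ← h1,
      List.length_map] at h2
    exact hdim.trans (le_of_eq (ENat.WithBot.add_natCast_cancel.1 h2).symm)
  obtain ⟨rs₀, x, hx⟩ := (List.eq_nil_or_concat' (rs.map ρ)).resolve_left (by
    intro h
    have := congrArg List.length h
    rw [List.length_map, hlen] at this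
    exact Nat.succ_ne_zero r this)
  rw [hx] at hm' hw' hI'
  refine paraCI_complete ih R' rs₀ x ?_ hm' hw' (R' ⧸ I') (Ideal.Quotient.mk I') Ideal.Quotient.mk_surjective
    (Ideal.mk_ker.trans hI') hdim'
  have := congrArg List.length hx
  rw [List.length_map, hlen, List.length_append, List.length_singleton] at this
  omega

/-- A complete intersection of dimension at least four is parafactorial. -/
theorem isParafactorial_of_ci : ∀ r, ParaCI.{u} r
  | 0 => paraCI_zero
  | r + 1 => paraCI_succ (isParafactorial_of_ci r)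

end GrothLib.SGA2Para
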