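import Mathlib.RingTheory.AdicCompletion.Basic
import Mathlib.RingTheory.Length
import Mathlib.RingTheory.Noetherian.Basic
import Mathlib.RingTheory.Finiteness.Basic
import Mathlib.Tactic.LinearCombination
import Mathlib.Tactic.Ring

/-!
# Algebraisation of a system with bounded cokernels

A system `S n` of `A/(t)^(n+1)`-modules behaving like the functionals on the thickenings of an invertible
module; if the cokernels at level zero have bounded finite length, the limit is a finite module.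
-/

set_option autoImplicit false
set_option linter.style.haveILetI false

universe u

namespace GrothLib.SGA2Para

/-- A system of modules along the thickenings of `t`. -/
structure LevelSystem (A : Type u) [CommRing A] (t : A) where
  /-- The module at a level. -/
  S : ℕ → Type u
  [grp : ∀ n, AddCommGroup (S n)]
  [mod : ∀ n, Module A (S n)]
  /-- Reduction. -/
  π : ∀ n, S (n + 1) →ₗ[A] S n
  /-- Multiplication by `t`. -/
  τ : ∀ n, S n →ₗ[A] S (n + 1)
  τ_inj : ∀ n, Function.Injective (τ n)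
  π_τ : ∀ n x, π n (τ n x) = t • x
  τ_π : ∀ n x, τ n (π n x) = t • x
  kill : ∀ n (x : S n), t ^ (n + 1) • x = 0

attribute [instance] LevelSystem.grp LevelSystem.mod

namespace LevelSystem

variable {A : Type u} [CommRing A] {t : A} (𝒮 : LevelSystem A t)

/-- Reduction to level zero. -/
def toZero : ∀ n, 𝒮.S n →ₗ[A] 𝒮.S 0
  | 0 => LinearMap.id
  | n + 1 => (toZero n).comp (𝒮.π n)

/-- From level zero by powers of `t`. -/
def up : ∀ n, 𝒮.S 0 →ₗ[A] 𝒮.S n
  | 0 => LinearMap.id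
  | n + 1 => (𝒮.τ n).comp (up n)

/-- `G d k` is the image of the level `k + d` in the level `k`. -/
def G : ℕ → ∀ k, Submodule A (𝒮.S k)
  | 0, _ => ⊤
  | d + 1, k => Submodule.map (𝒮.π k) (G d (k + 1))

theorem G_antitone : ∀ (d k : ℕ), 𝒮.G (d + 1) k ≤ 𝒮.G d k
  | 0, _ => le_top
  | d + 1, k => Submodule.map_mono (G_antitone d (k + 1))

theorem G_le {d e k : ℕ} (h : d ≤ e) : 𝒮.G e k ≤ 𝒮.G d k :=
  antitone_nat_of_succ_le (f := fun d => 𝒮.G d k) (fun d => 𝒮.G_antitone d k) h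

theorem map_toZero_G : ∀ (k d : ℕ), Submodule.map (𝒮.toZero k) (𝒮.G d k) = 𝒮.G (k + d) 0
  | 0, d => by rw [Nat.zero_add]; exact Submodule.map_id _
  | k + 1, d => by
    rw [show k + 1 + d = k + (d + 1) by omega, ← map_toZero_G k (d + 1), toZero, Submodule.map_comp]
    rfl

theorem range_toZero (n : ℕ) : LinearMap.range (𝒮.toZero n) = 𝒮.G n 0 := by
  rw [← Submodule.map_top]
  exact 𝒮.map_toZero_G n 0

theorem τ_mem_G {d k : ℕ} {x : 𝒮.S k} (hx : x ∈ 𝒮.G (d + 1) k) : 𝒮.τ k x ∈ 𝒮.G d (k + 1) := by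
  obtain ⟨z, hz, rfl⟩ := hx
  rw [𝒮.τ_π]
  exact Submodule.smul_mem _ _ hz

theorem up_mem_G : ∀ (k d : ℕ) {x : 𝒮.S 0}, x ∈ 𝒮.G (k + d) 0 → 𝒮.up k x ∈ 𝒮.G d k
  | 0, d, x, hx => by rw [Nat.zero_add] at hx; exact hx
  | k + 1, d, x, hx => 𝒮.τ_mem_G (up_mem_G k (d + 1) (by rwa [show k + (d + 1) = k + 1 + d by omega]))

/-- Exactness at level zero. -/
def IsExact : Prop :=
  ∀ (n : ℕ) (x : 𝒮.S (n + 1)), 𝒮.toZero (n + 1) x = 0 → x ∈ LinearMap.range (𝒮.τ n)

variable {𝒮}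

theorem exists_up_of_π_eq_zero (he : 𝒮.IsExact) :
    ∀ (k : ℕ) (x : 𝒮.S (k + 1)), 𝒮.π k x = 0 → ∃ z, 𝒮.up (k + 1) z = x
  | 0, x, hx => by
    obtain ⟨y, rfl⟩ := he 0 x (by simp [toZero, hx])
    exact ⟨y, rfl⟩
  | k + 1, x, hx => by
    obtain ⟨y, rfl⟩ := he (k + 1) x (by rw [toZero, LinearMap.comp_apply, hx, map_zero])
    rw [𝒮.π_τ, ← 𝒮.τ_π] at hx
    obtain ⟨z, hz⟩ := exists_up_of_π_eq_zero he k y (𝒮.τ_inj k (hx.trans (map_zero _).symm))
    exact ⟨z, by rw [← hz]; rfl⟩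

theorem length_quotient_G_le (he : 𝒮.IsExact) (l : ℕ∞) (hl : ∀ R, Module.length A (𝒮.S 0 ⧸ 𝒮.G R 0) ≤ l) :
    ∀ (k d : ℕ), Module.length A (𝒮.S k ⧸ 𝒮.G d k) ≤ (k + 1 : ℕ) * l
  | 0, d => by simpa using hl d
  | k + 1, d => by
    let a : (𝒮.S 0 ⧸ 𝒮.G (k + 1 + d) 0) →ₗ[A] 𝒮.S (k + 1) ⧸ 𝒮.G d (k + 1) :=
      Submodule.mapQ _ _ (𝒮.up (k + 1)) fun x hx => 𝒮.up_mem_G (k + 1) d hx
    let b : (𝒮.S (k + 1) ⧸ 𝒮.G d (k + 1)) →ₗ[A] 𝒮.S k ⧸ 𝒮.G (d + 1) k :=
      Submodule.mapQ _ _ (𝒮.π k) fun x hx => ⟨x, hx, rfl⟩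
    have hker : LinearMap.ker b ≤ LinearMap.range a := by
      intro q hq
      obtain ⟨x, rfl⟩ := Submodule.Quotient.mk_surjective _ q
      obtain ⟨g, hg, hgx⟩ := (Submodule.Quotient.mk_eq_zero _).1 (LinearMap.mem_ker.1 hq)
      obtain ⟨z, hz⟩ := exists_up_of_π_eq_zero he k (x - g) (by rw [map_sub, hgx, sub_self])
      refine ⟨Submodule.Quotient.mk z, ?_⟩
      show Submodule.Quotient.mk (𝒮.up (k + 1) z) = _
      rw [hz, Submodule.Quotient.eq, sub_sub_cancel_left]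
      exact neg_mem hg
    rw [Module.length_eq_add_of_exact (LinearMap.ker b).subtype b.rangeRestrict (Submodule.injective_subtype _)
      b.surjective_rangeRestrict (fun x => ⟨fun h => ⟨⟨x, LinearMap.mem_ker.2 (congrArg Subtype.val h)⟩, rfl⟩,
        fun ⟨z, hz⟩ => hz ▸ Subtype.ext (LinearMap.mem_ker.1 z.2)⟩)]
    rw [show ((k + 1 + 1 : ℕ) : ℕ∞) * l = l + ((k + 1 : ℕ) : ℕ∞) * l by push_cast; ring]
    refine add_le_add ?_ ((Module.length_le_of_injective _ (Submodule.injective_subtype _)).trans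
      (length_quotient_G_le he l hl k (d + 1)))
    refine ((Module.length_le_of_injective (Submodule.inclusion hker) (Submodule.inclusion_injective hker)).trans
      (Module.length_le_of_surjective a.rangeRestrict a.surjective_rangeRestrict)).trans (hl _)

theorem exists_stable (he : 𝒮.IsExact) (l : ℕ∞) (hl : ∀ R, Module.length A (𝒮.S 0 ⧸ 𝒮.G R 0) ≤ l)
    (hltop : l ≠ ⊤) (k : ℕ) : ∃ N, ∀ d, N ≤ d → 𝒮.G d k = 𝒮.G N k := by
  let f : ℕ → ℕ∞ := fun d => Module.length A (𝒮.S k ⧸ 𝒮.G d k)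
  have hb : ∀ d, f d ≤ ((k + 1 : ℕ) : ℕ∞) * l := fun d => length_quotient_G_le he l hl k d
  have htop : ∀ d, f d ≠ ⊤ := fun d => ne_top_of_le_ne_top (WithTop.mul_ne_top (ENat.coe_ne_top _) hltop) (hb d)
  have hmono : ∀ {d e}, d ≤ e → f d ≤ f e := fun h =>
    Module.length_le_of_surjective _ (Submodule.factor_surjective (𝒮.G_le h))
  obtain ⟨N, hN⟩ := Nat.sSup_mem (s := Set.range fun d => (f d).toNat) ⟨_, 0, rfl⟩
    ⟨(((k + 1 : ℕ) : ℕ∞) * l).toNat, by
      rintro _ ⟨d, rfl⟩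
      exact ENat.toNat_le_toNat (hb d) (WithTop.mul_ne_top (ENat.coe_ne_top _) hltop)⟩
  have hmax : ∀ d, f d ≤ f N := fun d => by
    rw [← ENat.coe_toNat (htop d), ← ENat.coe_toNat (htop N), ENat.coe_le_coe]
    rw [show (f N).toNat = sSup _ from hN]
    exact le_csSup ⟨(((k + 1 : ℕ) : ℕ∞) * l).toNat, by
      rintro _ ⟨e, rfl⟩
      exact ENat.toNat_le_toNat (hb e) (WithTop.mul_ne_top (ENat.coe_ne_top _) hltop)⟩ ⟨d, rfl⟩
  refine ⟨N, fun d hd => le_antisymm (𝒮.G_le hd) fun x hx => ?_⟩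
  let F := Submodule.factor (𝒮.G_le (k := k) hd)
  have hlen := Module.length_eq_add_of_exact (LinearMap.ker F).subtype F (Submodule.injective_subtype _)
    (Submodule.factor_surjective _) (LinearMap.exact_subtype_ker_map F)
  have h0 : Module.length A (LinearMap.ker F) = 0 := by
    have h1 : Module.length A (LinearMap.ker F) + f N ≤ 0 + f N := by
      rw [zero_add]
      exact hlen.ge.trans (hmax d)
    exact le_antisymm ((ENat.add_le_add_iff_right (htop N)).1 h1) zero_le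
  haveI := Module.length_eq_zero_iff.1 h0
  have hx' : F (Submodule.Quotient.mk x) = 0 := (Submodule.Quotient.mk_eq_zero _).2 hx
  exact (Submodule.Quotient.mk_eq_zero _).1
    (congrArg Subtype.val (Subsingleton.elim (⟨_, LinearMap.mem_ker.2 hx'⟩ : LinearMap.ker F) 0))

variable (𝒮)

/-- The limit. -/
def lim : Submodule A (∀ n, 𝒮.S n) where
  carrier := {f | ∀ n, 𝒮.π n (f (n + 1)) = f n}
  add_mem' := fun ha hb n => by rw [Pi.add_apply, map_add, ha n, hb n]; rfl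
  zero_mem' := fun n => map_zero _
  smul_mem' := fun a f hf n => by rw [Pi.smul_apply, map_smul, hf n]; rfl

/-- Evaluation at level zero. -/
def eval : 𝒮.lim →ₗ[A] 𝒮.S 0 := (LinearMap.proj 0).comp 𝒮.lim.subtype

theorem toZero_lim (f : 𝒮.lim) : ∀ n, 𝒮.toZero n (f.1 n) = f.1 0
  | 0 => rfl
  | n + 1 => by rw [toZero, LinearMap.comp_apply, f.2 n, toZero_lim f n]

theorem isSMulRegular_lim : IsSMulRegular 𝒮.lim t := by
  intro f g hfg
  refine Subtype.ext (funext fun n => 𝒮.τ_inj n ?_)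
  rw [← f.2 n, ← g.2 n, 𝒮.τ_π, 𝒮.τ_π]
  exact congrFun (congrArg Subtype.val hfg) (n + 1)

variable {𝒮}

theorem ker_eval (he : 𝒮.IsExact) (f : 𝒮.lim) (hf : 𝒮.eval f = 0) : ∃ g : 𝒮.lim, t • g = f := by
  choose y hy using fun n => LinearMap.mem_range.1 (he n (f.1 (n + 1)) ((𝒮.toZero_lim f (n + 1)).trans hf))
  refine ⟨⟨y, fun n => 𝒮.τ_inj n ?_⟩, Subtype.ext (funext fun n => ?_)⟩
  · rw [𝒮.τ_π, ← 𝒮.π_τ, hy, f.2 (n + 1), hy]
  · cases n with
    | zero =>
      show t • y 0 = f.1 0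
      rw [show f.1 0 = 0 from hf]
      simpa using 𝒮.kill 0 (y 0)
    | succ n =>
      show t • y (n + 1) = f.1 (n + 1)
      rw [← 𝒮.τ_π, show 𝒮.π n (y (n + 1)) = y n from 𝒮.τ_inj n (by
        rw [𝒮.τ_π, ← 𝒮.π_τ, hy, f.2 (n + 1), hy]), hy]

theorem exists_lim_of_stable (he : 𝒮.IsExact) (l : ℕ∞) (hl : ∀ R, Module.length A (𝒮.S 0 ⧸ 𝒮.G R 0) ≤ l)
    (hltop : l ≠ ⊤) : ∃ N, LinearMap.range 𝒮.eval = 𝒮.G N 0 := by
  choose N hN using exists_stable he l hl hltop
  refine ⟨N 0, le_antisymm ?_ ?_⟩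
  · rintro _ ⟨f, rfl⟩
    have : ∀ d k, f.1 k ∈ 𝒮.G d k := by
      intro d
      induction d with
      | zero => exact fun k => Submodule.mem_top
      | succ d ih => exact fun k => ⟨f.1 (k + 1), ih (k + 1), f.2 k⟩
    exact this (N 0) 0
  · intro x hx
    have hsurj : ∀ k (y : 𝒮.S k), y ∈ 𝒮.G (N k) k → ∃ z, z ∈ 𝒮.G (N (k + 1)) (k + 1) ∧ 𝒮.π k z = y := by
      intro k y hy
      let d := max (N k) (N (k + 1))
      have hy' : y ∈ 𝒮.G (d + 1) k := by
        rw [hN k (d + 1) ((le_max_left _ _).trans d.le_succ)]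
        exact hy
      obtain ⟨z, hz, rfl⟩ := hy'
      exact ⟨z, hN (k + 1) d (le_max_right _ _) ▸ hz, rfl⟩
    choose next hnext hπ using hsurj
    let seq : ∀ k, {y : 𝒮.S k // y ∈ 𝒮.G (N k) k} :=
      Nat.rec ⟨x, hx⟩ fun k p => ⟨next k p.1 p.2, hnext k p.1 p.2⟩
    exact ⟨⟨fun k => (seq k).1, fun k => hπ k (seq k).1 (seq k).2⟩, rfl⟩

theorem finite_lim (he : 𝒮.IsExact) [IsNoetherian A (𝒮.S 0)] [IsAdicComplete (Ideal.span {t}) A] :
    Module.Finite A 𝒮.lim := by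
  classical
  obtain ⟨r, x, hx⟩ := Submodule.fg_iff_exists_fin_generating_family.1
    (IsNoetherian.noetherian (LinearMap.range 𝒮.eval))
  choose F hF using fun i => (hx ▸ Submodule.subset_span ⟨i, rfl⟩ : x i ∈ LinearMap.range 𝒮.eval)
  have hstep : ∀ f : 𝒮.lim, ∃ (a : Fin r → A) (g : 𝒮.lim), f = (∑ i, a i • F i) + t • g := by
    intro f
    obtain ⟨a, ha⟩ := (Submodule.mem_span_range_iff_exists_fun A).1
      (hx.symm ▸ LinearMap.mem_range_self 𝒮.eval f : 𝒮.eval f ∈ Submodule.span A (Set.range x))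
    obtain ⟨g, hg⟩ := ker_eval he (f - ∑ i, a i • F i) (by
      rw [map_sub, map_sum, sub_eq_zero, ← ha]
      simp [hF])
    exact ⟨a, g, by rw [hg, add_sub_cancel]⟩
  choose a g hag using hstep
  refine Module.Finite.of_surjective (Fintype.linearCombination A F) fun f => ?_
  let rem : ℕ → 𝒮.lim := Nat.rec f fun _ p => g p
  let c : ℕ → Fin r → A := fun N i => ∑ j ∈ Finset.range N, t ^ j * a (rem j) i
  have hN : ∀ N, f = (∑ i, c N i • F i) + t ^ N • rem N := by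
    intro N
    induction N with
    | zero => simp [c, rem]
    | succ N ih =>
      conv_lhs => rw [ih, hag (rem N)]
      rw [smul_add, Finset.smul_sum, smul_smul, ← pow_succ, ← add_assoc]
      refine congrArg₂ (· + ·) ?_ rfl
      rw [← Finset.sum_add_distrib]
      refine Finset.sum_congr rfl fun i _ => ?_
      simp only [c, Finset.sum_range_succ, add_smul, smul_smul]
  have hcauchy : ∀ i {m n : ℕ}, m ≤ n → c m i ≡ c n i [SMOD (Ideal.span {t}) ^ m • (⊤ : Submodule A A)] := by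
    intro i m n hmn
    rw [SModEq.sub_mem, smul_eq_mul, Ideal.mul_top, ← neg_sub]
    refine neg_mem ?_
    simp only [c]
    rw [← Finset.sum_range_add_sum_Ico _ hmn, add_sub_cancel_left]
    refine Submodule.sum_mem _ fun j hj => Ideal.mul_mem_right _ _ ?_
    exact Ideal.pow_le_pow_right (Finset.mem_Ico.1 hj).1 (Ideal.pow_mem_pow (Ideal.mem_span_singleton_self t) j)
  choose cc hcc using fun i => IsPrecomplete.prec (I := Ideal.span {t}) (M := A) inferInstance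
    (f := fun m => c m i) (fun {m n} h => hcauchy i h)
  refine ⟨cc, Subtype.ext (funext fun n => ?_)⟩
  have h1 : ∀ i, ∃ b, cc i = c (n + 1) i + t ^ (n + 1) * b := fun i => by
    have := hcc i (n + 1)
    rw [SModEq.sub_mem, smul_eq_mul, Ideal.mul_top, Ideal.span_singleton_pow, Ideal.mem_span_singleton'] at this
    obtain ⟨b, hb⟩ := this
    exact ⟨-b, by linear_combination hb⟩
  choose b hb using h1
  conv_rhs => rw [hN (n + 1)]
  show (Fintype.linearCombination A F cc).1 n = _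
  rw [Fintype.linearCombination_apply]
  simp only [hb, add_smul, mul_smul, Finset.sum_add_distrib, Submodule.coe_add, Pi.add_apply, ← Finset.smul_sum,
    Submodule.coe_smul, Pi.smul_apply, 𝒮.kill, add_zero]

end LevelSystem

end GrothLib.SGA2Para
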