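import Groth.Agent.Lib.SGA2Para.Obstruction
import Groth.Agent.Lib.SGA2Para.Limit

/-!
# Algebraisation of a formal invertible module on a punctured spectrum

A compatible system of modules on the thickenings of `A/(t)`, free of rank one off the closed point, comes from
an invertible module on the punctured spectrum of `A`; if these are all trivial, so is the bottom of the system.
-/

set_option autoImplicit false
set_option linter.style.haveILetI false

universe u

open IsLocalRing CategoryTheory CategoryTheory.Abelian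

namespace GrothLib.SGA2Para

variable {A : Type u} [CommRing A] [IsLocalRing A] [IsNoetherianRing A]

omit [IsLocalRing A] [IsNoetherianRing A] in
/-- A family of powers bounded on generators is bounded. -/
theorem exists_uniform_pow {M : Type u} [AddCommGroup M] [Module A M] [Module.Finite A M] {m : M} {s : A}
    (h : ∀ x : M, ∃ (k : ℕ) (b : A), s ^ k • x = b • m) : ∃ K : ℕ, ∀ x : M, ∃ b : A, s ^ K • x = b • m := by
  classical
  obtain ⟨r, x, hx⟩ := Module.Finite.exists_fin (R := A) (M := M)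
  choose k b hb using fun i => h (x i)
  refine ⟨Finset.univ.sup k, fun y => ?_⟩
  have hy : y ∈ Submodule.span A (Set.range x) := hx ▸ Submodule.mem_top
  induction hy using Submodule.span_induction with
  | mem z hz =>
    obtain ⟨i, rfl⟩ := hz
    refine ⟨s ^ (Finset.univ.sup k - k i) * b i, ?_⟩
    rw [mul_smul, ← hb, smul_smul, ← pow_add, Nat.sub_add_cancel (Finset.le_sup (Finset.mem_univ i))]
  | zero => exact ⟨0, by simp⟩
  | add z w _ _ hz hw =>
    obtain ⟨c, hc⟩ := hz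
    obtain ⟨d, hd⟩ := hw
    exact ⟨c + d, by rw [smul_add, hc, hd, add_smul]⟩
  | smul a z _ hz =>
    obtain ⟨c, hc⟩ := hz
    exact ⟨a * c, by rw [smul_comm, hc, smul_smul]⟩

omit [IsNoetherianRing A] in
/-- The depth of a quotient ring over the ring. -/
theorem le_depth_quotient (I : Ideal A) [IsLocalRing (A ⧸ I)] {n : ℕ}
    (h : (n : ℕ∞) ≤ LocCoh.depth (A ⧸ I) (A ⧸ I)) : (n : ℕ∞) ≤ LocCoh.depth A (A ⧸ I) := by
  have hne : maximalIdeal (A ⧸ I) • (⊤ : Submodule (A ⧸ I) (A ⧸ I)) ≠ ⊤ := by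
    rw [smul_eq_mul, Ideal.mul_top]
    exact (maximalIdeal.isMaximal _).ne_top
  obtain ⟨rs, hlen, hmem, hreg⟩ := (Depth.le_idealDepth_iff_exists (maximalIdeal (A ⧸ I)) hne n).1 h
  by_cases hA : maximalIdeal A • (⊤ : Submodule A (A ⧸ I)) = ⊤
  · rw [LocCoh.depth, LocCoh.idealDepth, if_pos hA]
    exact le_top
  choose f hf using Ideal.Quotient.mk_surjective (I := I)
  refine (Depth.le_idealDepth_iff_exists (maximalIdeal A) hA n).2 ⟨rs.map f, by simp [hlen], ?_, ?_⟩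
  · intro r hr
    obtain ⟨x, hx, rfl⟩ := List.mem_map.1 hr
    rw [mem_maximalIdeal, mem_nonunits_iff]
    intro hu
    exact (mem_maximalIdeal _).1 (hmem x hx) (hf x ▸ hu.map _)
  · rw [← RingTheory.Sequence.isWeaklyRegular_map_algebraMap_iff (S := A ⧸ I) (A ⧸ I) (rs.map f), List.map_map,
      List.map_id'' (f := algebraMap A (A ⧸ I) ∘ f) (fun x => hf x) rs]
    exact hreg

variable (t : A)

/-- Reduction of levels. -/
def lvlQ (n : ℕ) : Lvl t (n + 1) →ₗ[A] Lvl t n :=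
  Submodule.factor (Ideal.span_singleton_le_span_singleton.2 (pow_dvd_pow t n.succ.le_succ))

/-- Multiplication by `t` between levels. -/
def lvlI (n : ℕ) : Lvl t n →ₗ[A] Lvl t (n + 1) :=
  Submodule.mapQ _ _ (LinearMap.mulLeft A t) fun x hx => by
    obtain ⟨b, rfl⟩ := Ideal.mem_span_singleton'.1 hx
    exact Ideal.mem_span_singleton'.2 ⟨b, by rw [LinearMap.mulLeft_apply, pow_succ]; ring⟩

/-- Reduction to level zero. -/
def lvlZero (n : ℕ) : Lvl t n →ₗ[A] Lvl t 0 :=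
  Submodule.factor (Ideal.span_singleton_le_span_singleton.2 (pow_dvd_pow t (Nat.le_add_left 1 n)))

omit [IsLocalRing A] [IsNoetherianRing A] in
theorem lvlI_injective (ht : IsSMulRegular A t) (n : ℕ) : Function.Injective (lvlI t n) := by
  rw [injective_iff_map_eq_zero]
  intro x hx
  obtain ⟨a, rfl⟩ := Ideal.Quotient.mk_surjective x
  obtain ⟨b, hb⟩ := Ideal.mem_span_singleton'.1 ((Submodule.Quotient.mk_eq_zero _).1 hx)
  refine Ideal.Quotient.eq_zero_iff_mem.2 (Ideal.mem_span_singleton'.2 ⟨b, ht ?_⟩)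
  show t • (b * t ^ (n + 1)) = t • a
  rw [smul_eq_mul, smul_eq_mul]
  refine Eq.trans ?_ hb
  ring

omit [IsLocalRing A] [IsNoetherianRing A] in
theorem lvl_kill (n : ℕ) (x : Lvl t n) : t ^ (n + 1) • x = 0 := by
  obtain ⟨a, rfl⟩ := Ideal.Quotient.mk_surjective x
  rw [Algebra.smul_def, Ideal.Quotient.algebraMap_eq,
    Ideal.Quotient.eq_zero_iff_mem.2 (Ideal.mem_span_singleton_self _), zero_mul]

variable [IsLocalRing (A ⧸ Ideal.span {t})]

/-- `Ext` from modules killed off the closed point into all levels vanishes in low degree. -/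
theorem van_lvl (ht : IsSMulRegular A t) {c : ℕ} (hd : (c : ℕ∞) ≤ LocCoh.depth (A ⧸ Ideal.span {t}) (A ⧸ Ideal.span {t})) :
    ∀ n, Van (S := A) (Lvl t n) c
  | 0 => by
    have h := van_of_depth (A ⧸ Ideal.span {t}) (le_depth_quotient _ hd)
    let e : (A ⧸ Ideal.span {t}) ≃ₗ[A] Lvl t 0 :=
      Submodule.quotEquivOfEq _ _ (by rw [Nat.zero_add, pow_one])
    refine van_of_exact (G₂ := PUnit.{u + 1}) e.toLinearMap 0 e.injective (fun y => ⟨0, Subsingleton.elim _ _⟩)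
      (fun y => ⟨fun _ => ⟨e.symm y, e.apply_symm_apply y⟩, fun _ => Subsingleton.elim _ _⟩) h ?_
    intro N _ _ _ _ i _
    refine subsingleton_of_forall_eq 0 fun z => ?_
    have h0 : 𝟙 (ModuleCat.of A PUnit.{u + 1}) = 0 := ModuleCat.hom_ext (LinearMap.ext fun x => Subsingleton.elim _ _)
    rw [← Ext.comp_mk₀_id z, h0, Ext.mk₀_zero, Ext.comp_zero]
  | n + 1 => by
    refine van_of_exact (lvlI t n) (lvlZero t (n + 1)) (lvlI_injective t ht n) (Submodule.factor_surjective (Ideal.span_singleton_le_span_singleton.2 (pow_dvd_pow t (Nat.le_add_left 1 (n + 1)))))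
      (fun x => ⟨fun hx => ?_, ?_⟩) (van_lvl ht hd n) (van_lvl ht hd 0)
    · obtain ⟨a, rfl⟩ := Ideal.Quotient.mk_surjective x
      obtain ⟨b, hb⟩ := Ideal.mem_span_singleton'.1 ((Submodule.Quotient.mk_eq_zero _).1 hx)
      refine ⟨Ideal.Quotient.mk _ b, congrArg (Ideal.Quotient.mk _) ?_⟩
      refine Eq.trans ?_ hb
      rw [LinearMap.mulLeft_apply, Nat.zero_add, pow_one, mul_comm]
    · rintro ⟨y, rfl⟩
      obtain ⟨b, rfl⟩ := Ideal.Quotient.mk_surjective y
      exact (Submodule.Quotient.mk_eq_zero _).2 (Ideal.mem_span_singleton'.2 ⟨b, by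
        show b * t ^ (0 + 1) = t * b
        rw [Nat.zero_add, pow_one, mul_comm]⟩)

/-- A formal invertible module on the punctured spectrum along `t`. -/
structure Tower where
  /-- The module at a level. -/
  D : ℕ → Type u
  [grp : ∀ n, AddCommGroup (D n)]
  [mod : ∀ n, Module A (D n)]
  [fin : ∀ n, Module.Finite A (D n)]
  /-- The transition map. -/
  u : ∀ n, D (n + 1) →ₗ[A] D n
  kill : ∀ n (x : D n), t ^ (n + 1) • x = 0
  gen : ∀ n, GenLevel t n (D n)
  u_ker : ∀ n (P : Ideal A), P.IsPrime → P ≠ maximalIdeal A → ∀ x, u n x = 0 →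
    ∃ s ∉ P, ∃ y, s • x = t ^ (n + 1) • y
  u_coker : ∀ n (P : Ideal A), P.IsPrime → P ≠ maximalIdeal A → ∀ y, ∃ s ∉ P, ∃ x, u n x = s • y

attribute [instance] Tower.grp Tower.mod Tower.fin

variable {t} (𝒯 : Tower t)

namespace Tower

variable (ht : IsSMulRegular A t)
  (hd : (4 : ℕ∞) ≤ LocCoh.depth (A ⧸ Ideal.span {t}) (A ⧸ Ideal.span {t}))

include ht hd in
theorem precomp_u_bijective {n k : ℕ} (h : k ≤ n) :
    Function.Bijective (LinearMap.lcomp A (Lvl t k) (𝒯.u n)) := by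
  let N : Submodule A (𝒯.D (n + 1)) := Ideal.span {t ^ (n + 1)} • ⊤
  have hN : N ≤ LinearMap.ker (𝒯.u n) := Submodule.smul_le.2 fun a ha x _ => by
    obtain ⟨b, rfl⟩ := Ideal.mem_span_singleton'.1 ha
    rw [LinearMap.mem_ker, map_smul, mul_smul, 𝒯.kill, smul_zero]
  have hu : UIso (N.liftQ (𝒯.u n) hN) := fun P hP hne => by
    refine ⟨fun x hx => ?_, fun y => ?_⟩
    · obtain ⟨x, rfl⟩ := Submodule.Quotient.mk_surjective _ x
      obtain ⟨s, hs, y, hy⟩ := 𝒯.u_ker n P hP hne x hx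
      refine ⟨s, hs, ?_⟩
      rw [← Submodule.Quotient.mk_smul, Submodule.Quotient.mk_eq_zero, hy]
      exact Submodule.smul_mem_smul (Ideal.mem_span_singleton_self _) Submodule.mem_top
    · obtain ⟨s, hs, x, hx⟩ := 𝒯.u_coker n P hP hne y
      exact ⟨s, hs, Submodule.Quotient.mk x, hx⟩
  have hb := precomp_bijective (van_lvl t ht (c := 2) (le_trans (by norm_num) hd) k) hu
  refine ⟨fun f f' hff' => hb.1 ?_, fun f => ?_⟩
  · exact Submodule.linearMap_qext _ hff'
  · have hf : N ≤ LinearMap.ker f := Submodule.smul_le.2 fun a ha x _ => by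
      obtain ⟨b, rfl⟩ := Ideal.mem_span_singleton'.1 ha
      rw [LinearMap.mem_ker, map_smul, mul_smul, show t ^ (n + 1) = t ^ (n - k) * t ^ (k + 1) by
        rw [← pow_add]; congr 1; omega, mul_smul, lvl_kill, smul_zero, smul_zero]
    obtain ⟨g, hg⟩ := hb.2 (N.liftQ f hf)
    exact ⟨g, LinearMap.ext fun x => LinearMap.congr_fun hg (Submodule.Quotient.mk x)⟩

/-- Precomposition with the transition map. -/
noncomputable def precompU {n k : ℕ} (h : k ≤ n) : (𝒯.D n →ₗ[A] Lvl t k) ≃ₗ[A] (𝒯.D (n + 1) →ₗ[A] Lvl t k) :=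
  LinearEquiv.ofBijective (LinearMap.lcomp A (Lvl t k) (𝒯.u n)) (𝒯.precomp_u_bijective ht hd h)

omit [IsLocalRing A] [IsNoetherianRing A] [IsLocalRing (A ⧸ Ideal.span {t})] in
theorem lvlQ_lvlI (n : ℕ) (x : Lvl t n) : lvlQ t n (lvlI t n x) = t • x := by
  obtain ⟨a, rfl⟩ := Ideal.Quotient.mk_surjective x
  rfl

omit [IsLocalRing A] [IsNoetherianRing A] [IsLocalRing (A ⧸ Ideal.span {t})] in
theorem lvlI_lvlQ (n : ℕ) (x : Lvl t (n + 1)) : lvlI t n (lvlQ t n x) = t • x := by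
  obtain ⟨a, rfl⟩ := Ideal.Quotient.mk_surjective x
  rfl

/-- The system of functionals. -/
noncomputable def sys : LevelSystem A t where
  S n := 𝒯.D n →ₗ[A] Lvl t n
  π n := (𝒯.precompU ht hd le_rfl).symm.toLinearMap.comp (LinearMap.compRight A (lvlQ t n))
  τ n := (LinearMap.compRight A (lvlI t n)).comp (LinearMap.lcomp A (Lvl t n) (𝒯.u n))
  τ_inj n := by
    intro f g hfg
    refine (𝒯.precomp_u_bijective ht hd (le_refl n)).1 (LinearMap.ext fun x => lvlI_injective t ht n ?_)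
    exact LinearMap.congr_fun hfg x
  π_τ n f := by
    show (𝒯.precompU ht hd le_rfl).symm ((lvlQ t n).comp ((lvlI t n).comp (f.comp (𝒯.u n)))) = t • f
    rw [LinearEquiv.symm_apply_eq]
    exact LinearMap.ext fun x => lvlQ_lvlI n _
  τ_π n f := by
    show (lvlI t n).comp (((𝒯.precompU ht hd le_rfl).symm ((lvlQ t n).comp f)).comp (𝒯.u n)) = t • f
    have h := (𝒯.precompU ht hd (le_refl n)).apply_symm_apply ((lvlQ t n).comp f)
    rw [show ((𝒯.precompU ht hd le_rfl).symm ((lvlQ t n).comp f)).comp (𝒯.u n) = (lvlQ t n).comp f from h]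
    exact LinearMap.ext fun x => lvlI_lvlQ n _
  kill n f := LinearMap.ext fun x => lvl_kill t n _

/-- The composite transition map to level zero. -/
def U : ∀ n, 𝒯.D n →ₗ[A] 𝒯.D 0
  | 0 => LinearMap.id
  | n + 1 => (U n).comp (𝒯.u n)

include ht hd in
theorem precomp_U_bijective : ∀ n, Function.Bijective (LinearMap.lcomp A (Lvl t 0) (𝒯.U n))
  | 0 => Function.bijective_id
  | n + 1 => (𝒯.precomp_u_bijective ht hd n.zero_le).comp (precomp_U_bijective n)

theorem toZero_comp_U : ∀ n (f : 𝒯.D n →ₗ[A] Lvl t n),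
    ((𝒯.sys ht hd).toZero n f).comp (𝒯.U n) = (lvlZero t n).comp f
  | 0, f => LinearMap.ext fun x => by
    obtain ⟨a, ha⟩ := Ideal.Quotient.mk_surjective (f x)
    show f x = lvlZero t 0 (f x)
    rw [← ha]
    rfl
  | n + 1, f => by
    let g := (𝒯.precompU ht hd le_rfl).symm ((lvlQ t n).comp f)
    have h : g.comp (𝒯.u n) = (lvlQ t n).comp f := (𝒯.precompU ht hd (le_refl n)).apply_symm_apply _
    show (((𝒯.sys ht hd).toZero n g).comp (𝒯.U n)).comp (𝒯.u n) = _
    rw [toZero_comp_U n g, LinearMap.comp_assoc, h]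
    refine LinearMap.ext fun x => ?_
    obtain ⟨a, ha⟩ := Ideal.Quotient.mk_surjective (f x)
    show lvlZero t n (lvlQ t n (f x)) = lvlZero t (n + 1) (f x)
    rw [← ha]
    rfl

theorem isExact : (𝒯.sys ht hd).IsExact := by
  intro n (f : 𝒯.D (n + 1) →ₗ[A] Lvl t (n + 1)) hf
  have h0 : (lvlZero t (n + 1)).comp f = 0 := by
    rw [← 𝒯.toZero_comp_U ht hd (n + 1) f, hf]
    rfl
  have hmem : ∀ x, f x ∈ LinearMap.range (lvlI t n) := fun x => by
    obtain ⟨a, ha⟩ := Ideal.Quotient.mk_surjective (f x)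
    have h1 : lvlZero t (n + 1) (f x) = 0 := LinearMap.congr_fun h0 x
    rw [← ha] at h1
    obtain ⟨b, hb⟩ := Ideal.mem_span_singleton'.1 ((Submodule.Quotient.mk_eq_zero _).1 h1)
    refine ⟨Ideal.Quotient.mk _ b, ?_⟩
    rw [← ha]
    refine congrArg (Ideal.Quotient.mk _) ?_
    refine Eq.trans ?_ hb
    rw [LinearMap.mulLeft_apply, Nat.zero_add, pow_one, mul_comm]
  let y : 𝒯.D (n + 1) →ₗ[A] Lvl t n :=
    (LinearEquiv.ofInjective (lvlI t n) (lvlI_injective t ht n)).symm.toLinearMap.comp (f.codRestrict _ hmem)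
  refine ⟨(𝒯.precompU ht hd le_rfl).symm y, LinearMap.ext fun x => ?_⟩
  show lvlI t n ((((𝒯.precompU ht hd le_rfl).symm y).comp (𝒯.u n)) x) = f x
  rw [show ((𝒯.precompU ht hd le_rfl).symm y).comp (𝒯.u n) = y from
    (𝒯.precompU ht hd (le_refl n)).apply_symm_apply y]
  exact congrArg Subtype.val
    ((LinearEquiv.ofInjective (lvlI t n) (lvlI_injective t ht n)).apply_symm_apply _)

omit [IsLocalRing (A ⧸ Ideal.span {t})] [IsNoetherianRing A] in
theorem U_ker : ∀ n (P : Ideal A), P.IsPrime → P ≠ maximalIdeal A → ∀ x, 𝒯.U n x = 0 →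
    ∃ s ∉ P, ∃ y, s • x = t • y
  | 0, P, hP, _, x, hx => ⟨1, hP.one_notMem, 0, by rw [show x = 0 from hx, smul_zero, smul_zero]⟩
  | n + 1, P, hP, hne, x, hx => by
    obtain ⟨s, hs, y, hy⟩ := U_ker n P hP hne (𝒯.u n x) hx
    obtain ⟨s₂, hs₂, x₂, hx₂⟩ := 𝒯.u_coker n P hP hne y
    obtain ⟨s₃, hs₃, z, hz⟩ := 𝒯.u_ker n P hP hne ((s₂ * s) • x - t • x₂) (by
      rw [map_sub, map_smul, map_smul, hx₂, mul_smul, hy, smul_comm, sub_self])
    refine ⟨s₃ * (s₂ * s), fun h => (hP.mem_or_mem h).elim hs₃ fun h' => (hP.mem_or_mem h').elim hs₂ hs,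
      s₃ • x₂ + t ^ n • z, ?_⟩
    rw [smul_add, smul_smul t (t ^ n), ← pow_succ', ← hz, smul_sub, mul_smul, smul_comm t s₃ x₂,
      add_sub_cancel]

omit [IsLocalRing (A ⧸ Ideal.span {t})] [IsNoetherianRing A] in
theorem U_coker : ∀ n (P : Ideal A), P.IsPrime → P ≠ maximalIdeal A → ∀ y, ∃ s ∉ P, ∃ x, 𝒯.U n x = s • y
  | 0, P, hP, _, y => ⟨1, hP.one_notMem, y, by rw [one_smul]; rfl⟩
  | n + 1, P, hP, hne, y => by
    obtain ⟨s, hs, x, hx⟩ := U_coker n P hP hne y
    obtain ⟨s₂, hs₂, x₂, hx₂⟩ := 𝒯.u_coker n P hP hne x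
    exact ⟨s₂ * s, fun h => (hP.mem_or_mem h).elim hs₂ hs, x₂, by
      show 𝒯.U n (𝒯.u n x₂) = _
      rw [hx₂, map_smul, hx, smul_smul]⟩

/-- The bound on the obstruction. -/
noncomputable def bound : ℕ∞ :=
  Module.length (A ⧸ Ideal.span {t}) (Ext
    (ModuleCat.of (A ⧸ Ideal.span {t}) (𝒯.D 0 ⧸ Ideal.span {t} • (⊤ : Submodule A (𝒯.D 0))))
    (ModuleCat.of (A ⧸ Ideal.span {t}) (A ⧸ Ideal.span {t})) 1)

theorem bound_ne_top : 𝒯.bound ≠ ⊤ := by
  haveI : Module.Finite (A ⧸ Ideal.span {t}) (𝒯.D 0 ⧸ Ideal.span {t} • (⊤ : Submodule A (𝒯.D 0))) :=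
    Module.Finite.of_restrictScalars_finite A _ _
  refine length_ext_ne_top fun P hP hne => ?_
  obtain ⟨m, s, hs, hgen, hkill⟩ := 𝒯.gen 0 (P.comap (Ideal.Quotient.mk _)) inferInstance
    (RamSam.comap_ne_maximal _ hne)
    (by rw [Ideal.mem_comap, Ideal.Quotient.eq_zero_iff_mem.2 (Ideal.mem_span_singleton_self t)]; exact zero_mem P)
  refine ⟨Submodule.Quotient.mk m, Ideal.Quotient.mk _ s, hs, fun x => ?_, fun b hb => ?_⟩
  · obtain ⟨x, rfl⟩ := Submodule.Quotient.mk_surjective _ x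
    obtain ⟨k, b, hk⟩ := hgen x
    refine ⟨k, Ideal.Quotient.mk _ b, ?_⟩
    rw [← map_pow]
    exact congrArg Submodule.Quotient.mk hk
  · obtain ⟨b, rfl⟩ := Ideal.Quotient.mk_surjective b
    have hmem : b • m ∈ Ideal.span {t} • (⊤ : Submodule A (𝒯.D 0)) := (Submodule.Quotient.mk_eq_zero _).1 hb
    have h0 : Ideal.span {t} • (⊤ : Submodule A (𝒯.D 0)) = ⊥ := by
      rw [eq_bot_iff, Submodule.smul_le]
      intro a ha x _
      obtain ⟨c, rfl⟩ := Ideal.mem_span_singleton'.1 ha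
      rw [Submodule.mem_bot, mul_smul, show t • x = 0 by simpa using 𝒯.kill 0 x, smul_zero]
    rw [h0, Submodule.mem_bot] at hmem
    obtain ⟨k, hk⟩ := hkill b hmem
    refine ⟨k, ?_⟩
    rw [← map_pow, ← map_mul, Ideal.Quotient.eq_zero_iff_mem]
    simpa using hk

include ht hd in
theorem length_le (R : ℕ) :
    Module.length A ((𝒯.sys ht hd).S 0 ⧸ (𝒯.sys ht hd).G R 0) ≤ 𝒯.bound := by
  haveI hfin : ∀ n, Module.Finite (A ⧸ Ideal.span {t}) (𝒯.D n ⧸ Ideal.span {t} • (⊤ : Submodule A (𝒯.D n))) :=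
    fun n => Module.Finite.of_restrictScalars_finite A _ _
  have hV : Van (S := A ⧸ Ideal.span {t}) (A ⧸ Ideal.span {t}) 3 :=
    van_of_depth (A ⧸ Ideal.span {t}) (le_trans (by norm_num) hd)
  obtain ⟨r, x, hx⟩ := Module.Finite.exists_fin (R := A) (M := 𝒯.D R)
  have hg : Function.Surjective (Fintype.linearCombination A x) := fun y =>
    (Submodule.mem_span_range_iff_exists_fun A).1 (hx ▸ Submodule.mem_top)
  have hmain := length_coker_le t (Fintype.linearCombination A x) ht (hV.mono (by norm_num)) hg (𝒯.gen R)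
    (lvlZero t R) (fun a => rfl)
  let e := LinearEquiv.ofBijective _ (𝒯.precomp_U_bijective ht hd R)
  let I := LinearMap.range (LinearMap.compRight A (lvlZero t R) : (𝒯.D R →ₗ[A] Lvl t R) →ₗ[A] (𝒯.D R →ₗ[A] Lvl t 0))
  have hG : ∀ y : (𝒯.sys ht hd).S 0, (∃ f, (𝒯.sys ht hd).toZero R f = y) → y ∈ (𝒯.sys ht hd).G R 0 := by
    rintro _ ⟨f, rfl⟩
    rw [← (𝒯.sys ht hd).range_toZero R]
    exact LinearMap.mem_range_self _ _
  let F : ((𝒯.D R →ₗ[A] Lvl t 0) ⧸ I) →ₗ[A] (𝒯.sys ht hd).S 0 ⧸ (𝒯.sys ht hd).G R 0 :=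
    Submodule.mapQ _ _ e.symm.toLinearMap (by
      rintro _ ⟨f, rfl⟩
      exact hG _ ⟨f, ((LinearEquiv.symm_apply_eq e).2 (show (lvlZero t R).comp f = e ((𝒯.sys ht hd).toZero R f) from
        (𝒯.toZero_comp_U ht hd R f).symm)).symm⟩)
  have hF : Function.Surjective F := by
    intro y
    obtain ⟨y, rfl⟩ := Submodule.Quotient.mk_surjective _ y
    exact ⟨Submodule.Quotient.mk (e y), congrArg Submodule.Quotient.mk (e.symm_apply_apply y)⟩
  refine (Module.length_le_of_surjective F hF).trans (hmain.trans ?_)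
  -- compare with level zero
  let J : Ideal A := Ideal.span {t}
  let ub : (𝒯.D R ⧸ J • (⊤ : Submodule A (𝒯.D R))) →ₗ[A ⧸ J] 𝒯.D 0 ⧸ J • (⊤ : Submodule A (𝒯.D 0)) :=
    (Submodule.mapQ _ _ (𝒯.U R) (by
      rw [← Submodule.map_le_iff_le_comap, Submodule.map_smul'']
      exact Submodule.smul_mono le_rfl le_top)).extendScalarsOfSurjective Ideal.Quotient.mk_surjective
  have h0 : J • (⊤ : Submodule A (𝒯.D 0)) = ⊥ := by
    rw [eq_bot_iff, Submodule.smul_le]
    intro a ha y _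
    obtain ⟨c, rfl⟩ := Ideal.mem_span_singleton'.1 ha
    rw [Submodule.mem_bot, mul_smul, show t • y = 0 by simpa using 𝒯.kill 0 y, smul_zero]
  have hub : UIso ub := fun P hP hne => by
    refine ⟨fun y hy => ?_, fun y => ?_⟩
    · obtain ⟨y, rfl⟩ := Submodule.Quotient.mk_surjective _ y
      have hy' : 𝒯.U R y ∈ J • (⊤ : Submodule A (𝒯.D 0)) := (Submodule.Quotient.mk_eq_zero _).1 hy
      rw [h0, Submodule.mem_bot] at hy'
      obtain ⟨s, hs, z, hz⟩ := 𝒯.U_ker R (P.comap (Ideal.Quotient.mk J)) inferInstance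
        (RamSam.comap_ne_maximal _ hne) y hy'
      refine ⟨Ideal.Quotient.mk J s, hs, ?_⟩
      show Submodule.Quotient.mk (s • y) = (0 : 𝒯.D R ⧸ J • (⊤ : Submodule A (𝒯.D R)))
      rw [hz, Submodule.Quotient.mk_eq_zero]
      exact Submodule.smul_mem_smul (Ideal.mem_span_singleton_self t) Submodule.mem_top
    · obtain ⟨y, rfl⟩ := Submodule.Quotient.mk_surjective _ y
      obtain ⟨s, hs, z, hz⟩ := 𝒯.U_coker R (P.comap (Ideal.Quotient.mk J)) inferInstance
        (RamSam.comap_ne_maximal _ hne) y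
      exact ⟨Ideal.Quotient.mk J s, hs, Submodule.Quotient.mk z, congrArg Submodule.Quotient.mk hz⟩
  let Fe : Ext (ModuleCat.of (A ⧸ J) (𝒯.D 0 ⧸ J • (⊤ : Submodule A (𝒯.D 0)))) (ModuleCat.of (A ⧸ J) (A ⧸ J)) 1
      →ₗ[A ⧸ J] Ext (ModuleCat.of (A ⧸ J) (𝒯.D R ⧸ J • (⊤ : Submodule A (𝒯.D R)))) (ModuleCat.of (A ⧸ J) (A ⧸ J)) 1 :=
    { toFun := fun e' => (Ext.mk₀ (ModuleCat.ofHom ub)).comp e' (zero_add 1)
      map_add' := fun a b => Ext.comp_add _ _ _ _
      map_smul' := fun c a => Ext.comp_smul _ _ _ _ }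
  exact Module.length_le_of_surjective Fe fun z => ext_precomp_surjective hV hub z

end Tower

end GrothLib.SGA2Para
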