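import Groth.Agent.Lib.SGA2Para.Sheaf
import Groth.Agent.Lib.SGA2Para.Algebraise

/-!
# Lifting an invertible module on a punctured hypersurface section to a formal one
-/

set_option autoImplicit false
set_option linter.style.haveILetI false
set_option backward.isDefEq.respectTransparency false

universe u

open IsLocalRing

namespace GrothLib.SGA2Para

variable {A : Type u} [CommRing A] [IsLocalRing A] [IsNoetherianRing A] {t : A}

/-- A module free of rank one off the closed point at a level. -/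
structure LevelMod (t : A) (n : ℕ) where
  /-- The module. -/
  D : Type u
  [grp : AddCommGroup D]
  [mod : Module A D]
  [fin : Module.Finite A D]
  kill : ∀ x : D, t ^ (n + 1) • x = 0
  gen : GenLevel t n D

attribute [instance] LevelMod.grp LevelMod.mod LevelMod.fin

/-- A quotient of a local ring by an ideal inside the maximal ideal is local. -/
theorem isLocalRing_quotient {R : Type u} [CommRing R] [IsLocalRing R] (I : Ideal R)
    (h : I ≤ maximalIdeal R) : IsLocalRing (R ⧸ I) := by
  haveI : Nontrivial (R ⧸ I) := Ideal.Quotient.nontrivial_iff.2 fun h' =>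
    (maximalIdeal.isMaximal R).ne_top (top_le_iff.1 (h' ▸ h))
  exact IsLocalRing.of_surjective' _ Ideal.Quotient.mk_surjective

omit [IsNoetherianRing A] in
theorem comap_ne_maximal_of_surjective {S : Type u} [CommRing S] [IsLocalRing S] (f : A →+* S)
    (hf : Function.Surjective f) {P : Ideal S} (hne : P ≠ maximalIdeal S) : P.comap f ≠ maximalIdeal A := by
  intro h
  refine hne ?_
  rw [← Ideal.map_comap_of_surjective f hf P, h, IsLocalRing.map_maximalIdeal_of_surjective f hf]

omit [IsNoetherianRing A] in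
theorem map_prime_of_ker_le {S : Type u} [CommRing S] [IsLocalRing S] (f : A →+* S) (hf : Function.Surjective f)
    {P : Ideal A} [P.IsPrime] (hne : P ≠ maximalIdeal A) (hk : RingHom.ker f ≤ P) :
    (P.map f).IsPrime ∧ P.map f ≠ maximalIdeal S ∧ ∀ a, f a ∈ P.map f → a ∈ P := by
  have hc : (P.map f).comap f = P := by
    rw [Ideal.comap_map_of_surjective f hf, ← RingHom.ker_eq_comap_bot, sup_eq_left.2 hk]
  refine ⟨Ideal.map_isPrime_of_surjective hf hk, fun h => hne ?_, fun a ha => hc ▸ ha⟩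
  rw [← hc, h]
  exact IsLocalRing.eq_maximalIdeal (Ideal.comap_isMaximal_of_surjective _ hf)

set_option maxHeartbeats 1000000 in
/-- A module at a level lifts to the next level. -/
theorem exists_next [IsLocalRing (A ⧸ Ideal.span {t})] (ht : IsSMulRegular A t) (htm : t ∈ maximalIdeal A)
    (hd : (4 : ℕ∞) ≤ LocCoh.depth (A ⧸ Ideal.span {t}) (A ⧸ Ideal.span {t})) {n : ℕ} (X : LevelMod t n) :
    ∃ (Y : LevelMod t (n + 1)) (u : Y.D →ₗ[A] X.D),
      (∀ P : Ideal A, P.IsPrime → P ≠ maximalIdeal A → ∀ x, u x = 0 → ∃ s ∉ P, ∃ y, s • x = t ^ (n + 1) • y) ∧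
      (∀ P : Ideal A, P.IsPrime → P ≠ maximalIdeal A → ∀ y, ∃ s ∉ P, ∃ x, u x = s • y) := by
  classical
  let S := Lvl t (n + 1)
  let π : A →+* S := Ideal.Quotient.mk (Ideal.span {t ^ (n + 1 + 1)})
  have hπ : Function.Surjective π := Ideal.Quotient.mk_surjective
  have hπker : ∀ a, π a = 0 ↔ ∃ b, b * t ^ (n + 1 + 1) = a := fun a =>
    Ideal.Quotient.eq_zero_iff_mem.trans Ideal.mem_span_singleton'
  haveI hSloc : IsLocalRing S := isLocalRing_quotient _
    ((Ideal.span_singleton_le_iff_mem _).2 (Ideal.pow_mem_of_mem _ htm _ (Nat.succ_pos _)))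
  let σ : S := π (t ^ (n + 1))
  let J : Ideal S := Ideal.span {σ}
  have hσ : σ * σ = 0 := by
    rw [← map_mul, hπker]
    exact ⟨t ^ n, by rw [← pow_add, ← pow_add]; congr 1; omega⟩
  have hJm : J ≤ maximalIdeal S := by
    rw [Ideal.span_singleton_le_iff_mem, ← IsLocalRing.map_maximalIdeal_of_surjective π hπ]
    exact Ideal.mem_map_of_mem π (Ideal.pow_mem_of_mem _ htm _ (Nat.succ_pos n))
  haveI : IsLocalRing (S ⧸ J) := isLocalRing_quotient _ hJm
  let ρ : A →+* S ⧸ J := (Ideal.Quotient.mk J).comp π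
  have hρ : Function.Surjective ρ := Ideal.Quotient.mk_surjective.comp hπ
  have hρker : RingHom.ker ρ ≤ Ideal.span {t ^ (n + 1)} := by
    intro a ha
    have ha' : Ideal.Quotient.mk J (π a) = 0 := ha
    obtain ⟨c, hc⟩ := Ideal.mem_span_singleton'.1 (Ideal.Quotient.eq_zero_iff_mem.1 ha')
    obtain ⟨c, rfl⟩ := hπ c
    rw [← map_mul] at hc
    obtain ⟨b, hb⟩ := Ideal.mem_span_singleton'.1 (Ideal.Quotient.eq.1 hc.symm)
    refine Ideal.mem_span_singleton'.2 ⟨b * t + c, ?_⟩
    rw [pow_succ] at hb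
    linear_combination hb
  -- the module at level `n` over `S ⧸ J`
  let M := X.D
  have hkillM : Module.IsTorsionBySet A M (RingHom.ker ρ : Set A) := fun x a => by
    obtain ⟨b, hb⟩ := Ideal.mem_span_singleton'.1 (hρker a.2)
    show (a : A) • x = 0
    rw [← hb, mul_smul, X.kill, smul_zero]
  letI : Algebra A (S ⧸ J) := ρ.toAlgebra
  let eρ := RingHom.quotientKerEquivOfSurjective hρ
  letI modM : Module (S ⧸ J) M :=
    letI := hkillM.module
    Module.compHom M eρ.symm.toRingHom
  have hsmul : ∀ (a : A) (x : M), ρ a • x = a • x := fun a x => by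
    letI := hkillM.module
    show eρ.symm (ρ a) • x = a • x
    rw [show eρ.symm (ρ a) = Ideal.Quotient.mk _ a from (RingEquiv.symm_apply_eq _).2 rfl]
    rfl
  haveI : IsScalarTower A (S ⧸ J) M := IsScalarTower.of_algebraMap_smul fun a x => hsmul a x
  haveI : Module.Finite (S ⧸ J) M := Module.Finite.of_restrictScalars_finite A _ _
  have hM : RamSam.GenPunct (S ⧸ J) M := by
    intro P hP hne
    have htP : t ∈ P.comap ρ := by
      refine (Ideal.IsPrime.comap ρ).mem_of_pow_mem (n + 1) ?_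
      rw [Ideal.mem_comap, show ρ (t ^ (n + 1)) = 0 from
        Ideal.Quotient.eq_zero_iff_mem.2 (Ideal.mem_span_singleton_self σ)]
      exact zero_mem P
    obtain ⟨m, s, hs, h1, h2⟩ := X.gen (P.comap ρ) inferInstance (comap_ne_maximal_of_surjective ρ hρ hne) htP
    refine ⟨m, ρ s, hs, fun x => ?_, fun b hb => ?_⟩
    · obtain ⟨k, b, hk⟩ := h1 x
      exact ⟨k, ρ b, by rw [← map_pow, hsmul, hsmul, hk]⟩
    · obtain ⟨b, rfl⟩ := hρ b
      rw [hsmul] at hb
      obtain ⟨k, hk⟩ := h2 b hb
      rw [Ideal.span_singleton_pow, Ideal.mem_span_singleton'] at hk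
      obtain ⟨c, hc⟩ := hk
      refine ⟨k, ?_⟩
      rw [← map_pow, ← map_mul, ← hc, map_mul, show ρ (t ^ (n + 1)) = 0 from
        Ideal.Quotient.eq_zero_iff_mem.2 (Ideal.mem_span_singleton_self σ), mul_zero]
  let B := A ⧸ Ideal.span {t}
  let ψ : S →+* B := Ideal.Quotient.factor (Ideal.span_singleton_le_span_singleton.2
    (dvd_pow_self t (Nat.succ_ne_zero _)))
  have hψ : Function.Surjective ψ := Ideal.Quotient.factor_surjective _
  have hann : ∀ a, a ∈ RingHom.ker ψ ↔ a * σ = 0 := by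
    intro a
    obtain ⟨a, rfl⟩ := hπ a
    rw [RingHom.mem_ker, show ψ (π a) = Ideal.Quotient.mk _ a from rfl, Ideal.Quotient.eq_zero_iff_mem,
      Ideal.mem_span_singleton', ← map_mul, hπker]
    refine exists_congr fun b => ⟨fun h => by rw [← h]; ring, fun h => ?_⟩
    refine (ht.pow (n + 1)) ?_
    show t ^ (n + 1) • (b * t) = t ^ (n + 1) • a
    rw [smul_eq_mul, smul_eq_mul]
    linear_combination h
  obtain ⟨N, _, _, _, hN, v, w, hv, hw⟩ :=
    exists_lift_genPunct J σ rfl hσ ψ hψ hann hd M hM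
  letI modN : Module A N := Module.compHom N π
  haveI : IsScalarTower A S N := IsScalarTower.of_algebraMap_smul fun _ _ => rfl
  haveI : Module.Finite A N := Module.Finite.trans S N
  let mkN : N → N ⧸ J • (⊤ : Submodule S N) := Submodule.Quotient.mk
  have hmkN : ∀ (a : A) (x : N), mkN (a • x) = ρ a • mkN x := fun a x => rfl
  let F : Submodule A (N × M) :=
    { carrier := {p | v (mkN p.1) = w p.2}
      add_mem' := fun {p q} hp hq => by
        show v (mkN (p.1 + q.1)) = w (p.2 + q.2)
        rw [show mkN (p.1 + q.1) = mkN p.1 + mkN q.1 from rfl, map_add, map_add, hp, hq]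
      zero_mem' := by
        show v (mkN 0) = w 0
        rw [show mkN (0 : N) = 0 from rfl, map_zero, map_zero]
      smul_mem' := fun a p hp => by
        show v (mkN (a • p.1)) = w (a • p.2)
        rw [hmkN, map_smul, hp, ← hsmul a p.2, map_smul] }
  haveI : Module.Finite A F := Module.Finite.iff_fg.2 (IsNoetherian.noetherian F)
  have hNkill : ∀ x : N, t ^ (n + 1 + 1) • x = 0 := fun x => by
    show π (t ^ (n + 1 + 1)) • x = 0
    rw [Ideal.Quotient.eq_zero_iff_mem.2 (Ideal.mem_span_singleton_self _), zero_smul]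
  have hFkill : ∀ p : F, t ^ (n + 1 + 1) • p = 0 := fun p => Subtype.ext (Prod.ext (hNkill _) (by
    show t ^ (n + 1 + 1) • p.1.2 = 0
    rw [pow_succ', mul_smul, X.kill, smul_zero]))
  have hkerρ : ∀ P : Ideal A, P.IsPrime → t ∈ P → RingHom.ker ρ ≤ P := fun P _ htP =>
    hρker.trans ((Ideal.span_singleton_le_iff_mem P).2 (Ideal.pow_mem_of_mem P htP _ (Nat.succ_pos n)))
  have hgen : GenLevel t (n + 1) F := by
    intro P hP hne htP
    obtain ⟨hPS, hPSne, hPSmem⟩ := map_prime_of_ker_le π hπ hne (by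
      intro a ha
      obtain ⟨b, rfl⟩ := (hπker a).1 ha
      exact P.mul_mem_left b (Ideal.pow_mem_of_mem P htP _ (Nat.succ_pos _)))
    obtain ⟨hPJ, hPJne, hPJmem⟩ := map_prime_of_ker_le ρ hρ hne (hkerρ P hP htP)
    obtain ⟨m, s, hs, h1, h2⟩ := hN (P.map π) hPS hPSne
    obtain ⟨s, rfl⟩ := hπ s
    have hs' : s ∉ P := fun h => hs (Ideal.mem_map_of_mem π h)
    obtain ⟨c, hc, y, hy⟩ := (hw (P.map ρ) hPJ hPJne).2 (v (mkN m))
    obtain ⟨c, rfl⟩ := hρ c
    have hc' : c ∉ P := fun h => hc (Ideal.mem_map_of_mem ρ h)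
    -- an element killing the kernel of `w`
    obtain ⟨d, hd', hdk⟩ : ∃ d ∉ P, ∀ z : M, w z = 0 → d • z = 0 := by
      obtain ⟨r, g, hg⟩ := Submodule.fg_iff_exists_fin_generating_family.1
        (IsNoetherian.noetherian (LinearMap.ker w))
      choose e he heg using fun i => (hw (P.map ρ) hPJ hPJne).1 (g i)
        (LinearMap.mem_ker.1 (hg ▸ Submodule.subset_span ⟨i, rfl⟩ : g i ∈ LinearMap.ker w))
      choose e' he' using fun i => hρ (e i)
      refine ⟨∏ i, e' i, fun h => ?_, fun z hz => ?_⟩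
      · obtain ⟨i, -, hi⟩ := Ideal.IsPrime.prod_mem_iff.1 h
        exact he i (he' i ▸ Ideal.mem_map_of_mem ρ hi)
      · have hz' : z ∈ Submodule.span (S ⧸ J) (Set.range g) := hg ▸ LinearMap.mem_ker.2 hz
        clear hz
        rw [← hsmul]
        induction hz' using Submodule.span_induction with
        | mem x hx =>
          obtain ⟨i, rfl⟩ := hx
          rw [map_prod, ← Finset.mul_prod_erase _ _ (Finset.mem_univ i), mul_comm, mul_smul, he', heg, smul_zero]
        | zero => rw [smul_zero]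
        | add a b _ _ ha hb => rw [smul_add, ha, hb, add_zero]
        | smul a x _ hx => rw [smul_comm, hx, smul_zero]
    let m' : F := ⟨(c • m, y), show v (mkN (c • m)) = w y by rw [hmkN, map_smul, hy]⟩
    refine ⟨m', s * c * d, fun h => (hP.mem_or_mem h).elim
      (fun h' => (hP.mem_or_mem h').elim hs' hc') hd', fun p => ?_, fun b hb => ?_⟩
    · obtain ⟨k, b, hk⟩ := h1 p.1.1
      obtain ⟨b, rfl⟩ := hπ b
      have hk' : s ^ k • p.1.1 = b • m := by
        show π (s ^ k) • p.1.1 = π b • m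
        rw [map_pow]
        exact hk
      have h0 : w ((c * s ^ k) • p.1.2 - b • y) = 0 := by
        have hp2 : v (mkN p.1.1) = w p.1.2 := p.2
        have e1 : w ((c * s ^ k) • p.1.2) = v (mkN ((c * s ^ k) • p.1.1)) := by
          rw [← hsmul, map_smul, ← hp2, hmkN, map_smul]
        have e2 : w (b • y) = v (mkN (b • c • m)) := by
          rw [← hsmul, map_smul, hy, hmkN, map_smul, hmkN, map_smul]
        rw [map_sub, e1, e2, mul_smul c, hk', smul_comm c b, sub_self]
      have hkey : (d * (c * s ^ k)) • p = (d * b) • m' := by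
        refine Subtype.ext (Prod.ext ?_ ?_)
        · show (d * (c * s ^ k)) • p.1.1 = (d * b) • c • m
          rw [mul_smul, mul_smul c, hk', mul_smul, smul_comm c b]
        · show (d * (c * s ^ k)) • p.1.2 = (d * b) • y
          rw [mul_smul d (c * s ^ k), mul_smul d b, ← sub_eq_zero, ← smul_sub]
          exact hdk _ h0
      refine ⟨k + 1, c ^ k * d ^ k * s * (d * b), ?_⟩
      rw [mul_smul (c ^ k * d ^ k * s), ← hkey, smul_smul]
      congr 1
      ring
    · have hb' : (b * c) • m = 0 := by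
        rw [mul_smul]
        exact congrArg (fun z : F => z.1.1) hb
      obtain ⟨k, hk⟩ := h2 (π (b * c)) hb'
      rw [← map_pow, ← map_mul] at hk
      obtain ⟨e, he⟩ := (hπker _).1 hk
      refine ⟨k + 1, ?_⟩
      rw [Ideal.span_singleton_pow, Ideal.mem_span_singleton']
      exact ⟨e * s * c ^ k * d ^ (k + 1), by linear_combination s * c ^ k * d ^ (k + 1) * he⟩
  refine ⟨⟨F, hFkill, hgen⟩, (LinearMap.snd A N M).comp F.subtype, fun P hP hne p hp => ?_, fun P hP hne y => ?_⟩
  · have hp' : p.1.2 = 0 := hp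
    by_cases htP : t ∈ P
    swap
    · refine ⟨t ^ (n + 1 + 1), fun h => htP (hP.mem_of_pow_mem _ h), 0, ?_⟩
      rw [hFkill, smul_zero]
    obtain ⟨hPJ, hPJne, -⟩ := map_prime_of_ker_le ρ hρ hne (hkerρ P hP htP)
    obtain ⟨e, he, hex⟩ := (hv (P.map ρ) hPJ hPJne).1 (mkN p.1.1) (by rw [p.2, hp', map_zero])
    obtain ⟨e, rfl⟩ := hρ e
    have hmem : e • p.1.1 ∈ J • (⊤ : Submodule S N) := (Submodule.Quotient.mk_eq_zero _).1 ((hmkN e p.1.1).trans hex)
    obtain ⟨x', hx'⟩ : ∃ x' : N, σ • x' = e • p.1.1 := by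
      revert hmem
      generalize e • p.1.1 = z
      intro hmem
      refine Submodule.smul_induction_on hmem (fun r hr z _ => ?_) fun a b ha hb => ?_
      · obtain ⟨q, rfl⟩ := Ideal.mem_span_singleton'.1 hr
        exact ⟨q • z, by rw [smul_smul, mul_comm]⟩
      · obtain ⟨x₁, rfl⟩ := ha
        obtain ⟨x₂, rfl⟩ := hb
        exact ⟨x₁ + x₂, smul_add _ _ _⟩
    obtain ⟨c, hc, y', hy'⟩ := (hw (P.map ρ) hPJ hPJne).2 (v (mkN x'))
    obtain ⟨c, rfl⟩ := hρ c
    refine ⟨c * e, fun h => (hP.mem_or_mem h).elim (fun h' => hc (Ideal.mem_map_of_mem ρ h'))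
      (fun h' => he (Ideal.mem_map_of_mem ρ h')), ⟨(c • x', y'), show v (mkN (c • x')) = w y' by
        rw [hmkN, map_smul, hy']⟩, Subtype.ext (Prod.ext ?_ ?_)⟩
    · show (c * e) • p.1.1 = t ^ (n + 1) • c • x'
      rw [mul_smul, ← hx', smul_comm]
      rfl
    · show (c * e) • p.1.2 = t ^ (n + 1) • y'
      rw [hp', smul_zero, X.kill]
  · by_cases htP : t ∈ P
    swap
    · refine ⟨t ^ (n + 1), fun h => htP (hP.mem_of_pow_mem _ h), 0, ?_⟩
      rw [map_zero, X.kill]
    obtain ⟨hPJ, hPJne, -⟩ := map_prime_of_ker_le ρ hρ hne (hkerρ P hP htP)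
    obtain ⟨e, he, z, hz⟩ := (hv (P.map ρ) hPJ hPJne).2 (w y)
    obtain ⟨e, rfl⟩ := hρ e
    obtain ⟨z, rfl⟩ := Submodule.Quotient.mk_surjective _ z
    exact ⟨e, fun h => he (Ideal.mem_map_of_mem ρ h), ⟨(z, e • y), show v (mkN z) = w (e • y) by
      rw [← hsmul, map_smul]; exact hz⟩, rfl⟩

/-- An invertible module on the punctured hypersurface section extends to a tower. -/
theorem exists_tower [IsLocalRing (A ⧸ Ideal.span {t})] (ht : IsSMulRegular A t) (htm : t ∈ maximalIdeal A)
    (hd : (4 : ℕ∞) ≤ LocCoh.depth (A ⧸ Ideal.span {t}) (A ⧸ Ideal.span {t}))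
    (M : Type u) [AddCommGroup M] [Module A M] [Module (A ⧸ Ideal.span {t}) M]
    [IsScalarTower A (A ⧸ Ideal.span {t}) M] [Module.Finite A M]
    (hM : RamSam.GenPunct (A ⧸ Ideal.span {t}) M) :
    ∃ 𝒯 : Tower t, Nonempty (M ≃ₗ[A] 𝒯.D 0) := by
  classical
  let X₀ : LevelMod t 0 :=
    { D := M
      kill := fun x => by
        rw [Nat.zero_add, pow_one, ← IsScalarTower.algebraMap_smul (A ⧸ Ideal.span {t}) t x,
          Ideal.Quotient.algebraMap_eq, Ideal.Quotient.eq_zero_iff_mem.2 (Ideal.mem_span_singleton_self t), zero_smul]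
      gen := fun P hP hne htP => by
        obtain ⟨hPB, hPBne, hmem⟩ := map_prime_of_ker_le (Ideal.Quotient.mk (Ideal.span {t}))
          Ideal.Quotient.mk_surjective hne (by rw [Ideal.mk_ker]; exact (Ideal.span_singleton_le_iff_mem P).2 htP)
        obtain ⟨m, s, hs, h1, h2⟩ := hM _ hPB hPBne
        obtain ⟨s, rfl⟩ := Ideal.Quotient.mk_surjective s
        refine ⟨m, s, fun h => hs (Ideal.mem_map_of_mem _ h), fun x => ?_, fun b hb => ?_⟩
        · obtain ⟨k, b, hk⟩ := h1 x
          obtain ⟨b, rfl⟩ := Ideal.Quotient.mk_surjective b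
          refine ⟨k, b, ?_⟩
          rw [← IsScalarTower.algebraMap_smul (A ⧸ Ideal.span {t}) (s ^ k) x,
            ← IsScalarTower.algebraMap_smul (A ⧸ Ideal.span {t}) b m, map_pow]
          exact hk
        · rw [← IsScalarTower.algebraMap_smul (A ⧸ Ideal.span {t}) b m] at hb
          obtain ⟨k, hk⟩ := h2 _ hb
          refine ⟨k, ?_⟩
          rw [Nat.zero_add, pow_one, ← Ideal.Quotient.eq_zero_iff_mem, map_mul, map_pow]
          exact hk }
  choose next u hker hcoker using fun (n : ℕ) (X : LevelMod t n) => exists_next ht htm hd X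
  let lev : ∀ n, LevelMod t n := fun n => Nat.rec X₀ (fun k X => next k X) n
  exact ⟨{ D := fun n => (lev n).D
           grp := fun n => (lev n).grp
           mod := fun n => (lev n).mod
           fin := fun n => (lev n).fin
           u := fun n => u n (lev n)
           kill := fun n => (lev n).kill
           gen := fun n => (lev n).gen
           u_ker := fun n => hker n (lev n)
           u_coker := fun n => hcoker n (lev n) }, ⟨LinearEquiv.refl A M⟩⟩

end GrothLib.SGA2Para
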