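import Groth.Agent.Lib.SGA2Para.Sheaf
import Groth.Agent.Lib.RamSam.PunctBridge
import Mathlib.AlgebraicGeometry.IdealSheaf.Functorial

/-!
# Maps which are isomorphisms off the closed point, on sheaves
-/

set_option autoImplicit false
set_option linter.style.haveILetI false
set_option backward.isDefEq.respectTransparency false

universe u

open CategoryTheory CategoryTheory.Limits AlgebraicGeometry TopologicalSpace Opposite

namespace GrothLib.SGA2Para

/-- Bijectivity over `D(g)` from control of kernel and cokernel by powers of `g`. -/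
theorem app_bijective_of_pow {R : CommRingCat.{u}} {M N : ModuleCat.{u} R} (ψ : M →ₗ[R] N) (g : R)
    (hker : ∀ x, ψ x = 0 → ∃ k : ℕ, g ^ k • x = 0) (hcoker : ∀ y, ∃ (k : ℕ) (x : M), ψ x = g ^ k • y) :
    Function.Bijective ((tilde.map (ModuleCat.ofHom ψ)).app (PrimeSpectrum.basicOpen g : (Spec R).Opens)) := by
  let ψh : M ⟶ N := ModuleCat.ofHom ψ
  let D : (Spec R).Opens := PrimeSpectrum.basicOpen g
  let T : M →ₗ[R] Γ(tilde M, D) := (tilde.toOpen M D).hom
  let T' : N →ₗ[R] Γ(tilde N, D) := (tilde.toOpen N D).hom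
  haveI : IsLocalizedModule (.powers g) T :=
    (inferInstance : IsLocalizedModule.Away g (tilde.toOpen M (PrimeSpectrum.basicOpen g)).hom)
  haveI : IsLocalizedModule (.powers g) T' :=
    (inferInstance : IsLocalizedModule.Away g (tilde.toOpen N (PrimeSpectrum.basicOpen g)).hom)
  let Ψ : Γ(tilde M, D) →ₗ[R] Γ(tilde N, D) := ((modulesSpecToSheaf.map (tilde.map ψh)).1.app (op D)).hom
  have hΨ : ∀ x, Ψ (T x) = T' (ψ x) := fun x => ConcreteCategory.congr_hom (tilde.toOpen_map_app ψh D) x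
  have hunit : ∀ n : ℕ, Function.Bijective fun z : Γ(tilde M, D) => g ^ n • z := fun n =>
    (Module.End.isUnit_iff _).1 (IsLocalizedModule.map_units T (⟨g ^ n, ⟨n, rfl⟩⟩ : Submonoid.powers g))
  have hunit' : ∀ n : ℕ, Function.Bijective fun z : Γ(tilde N, D) => g ^ n • z := fun n =>
    (Module.End.isUnit_iff _).1 (IsLocalizedModule.map_units T' (⟨g ^ n, ⟨n, rfl⟩⟩ : Submonoid.powers g))
  show Function.Bijective Ψ
  refine ⟨(injective_iff_map_eq_zero Ψ).2 fun z hz => ?_, fun w => ?_⟩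
  · obtain ⟨⟨x, ⟨_, n, rfl⟩⟩, hx⟩ := IsLocalizedModule.surj (.powers g) T z
    have hx' : g ^ n • z = T x := hx
    have h1 : T' (ψ x) = 0 := by rw [← hΨ, ← hx', map_smul, hz, smul_zero]
    obtain ⟨⟨_, i, rfl⟩, hi⟩ := (IsLocalizedModule.eq_zero_iff (.powers g) T').1 h1
    have hi' : g ^ i • ψ x = 0 := hi
    obtain ⟨k, hk⟩ := hker (g ^ i • x) ((map_smul ψ _ x).trans hi')
    refine (hunit (k + i + n)).1 (show g ^ (k + i + n) • z = g ^ (k + i + n) • 0 from ?_)
    rw [smul_zero, pow_add, mul_smul, hx', ← map_smul, pow_add, mul_smul, hk, map_zero]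
  · obtain ⟨⟨y, ⟨_, n, rfl⟩⟩, hy⟩ := IsLocalizedModule.surj (.powers g) T' w
    have hy' : g ^ n • w = T' y := hy
    obtain ⟨k, x, hx⟩ := hcoker y
    obtain ⟨z, hz⟩ := (hunit (k + n)).2 (T x)
    have hz' : g ^ (k + n) • z = T x := hz
    refine ⟨z, (hunit' (k + n)).1 (show g ^ (k + n) • Ψ z = g ^ (k + n) • w from ?_)⟩
    rw [← map_smul, hz', hΨ, hx, pow_add, mul_smul, hy', map_smul]

variable {S : Type u} [CommRing S] [IsLocalRing S] [IsNoetherianRing S]

/-- Elements of the maximal ideal kill, up to powers, a finite module killed off the closed point. -/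
theorem exists_pow_smul_eq_zero_of_killed {N : Type u} [AddCommGroup N] [Module S N]
    (hN : Killed S N) {g : S} (hg : g ∈ IsLocalRing.maximalIdeal S) (x : N) : ∃ k : ℕ, g ^ k • x = 0 := by
  have hle : IsLocalRing.maximalIdeal S ≤ (Ideal.torsionOf S N x).radical := by
    rw [Ideal.radical_eq_sInf]
    refine le_sInf fun P hP => ?_
    by_cases hne : P = IsLocalRing.maximalIdeal S
    · exact hne.ge
    · obtain ⟨s, hs, hsx⟩ := hN P hP.2 hne x
      exact absurd (hP.1 ((Ideal.mem_torsionOf_iff x s).2 hsx)) hs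
  obtain ⟨k, hk⟩ := hle hg
  exact ⟨k, (Ideal.mem_torsionOf_iff x _).1 hk⟩

/-- A map which is an isomorphism off the closed point gives isomorphic sheaves there. -/
theorem nonempty_iso_of_uiso {P Q : Type u} [AddCommGroup P] [Module S P] [AddCommGroup Q] [Module S Q]
    (u : P →ₗ[S] Q) (hu : UIso u) :
    Nonempty ((Scheme.Modules.restrictFunctor (FEt.puncturedSpec S).ι).obj
        (tilde (R := CommRingCat.of S) (ModuleCat.of (CommRingCat.of S) P)) ≅
      (Scheme.Modules.restrictFunctor (FEt.puncturedSpec S).ι).obj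
        (tilde (R := CommRingCat.of S) (ModuleCat.of (CommRingCat.of S) Q))) := by
  let U := FEt.puncturedSpec S
  let ul : ModuleCat.of (CommRingCat.of S) P →ₗ[(CommRingCat.of S)] ModuleCat.of (CommRingCat.of S) Q := u
  let Ψ := (Scheme.Modules.restrictFunctor U.ι).map (tilde.map (ModuleCat.ofHom ul))
  haveI : IsIso Ψ := by
    refine GrothLib.ZClosure.isIso_of_basis Ψ fun y V hyV => ?_
    obtain ⟨_, ⟨r, rfl⟩, hyr, hrV⟩ := PrimeSpectrum.isTopologicalBasis_basic_opens.exists_subset_of_mem_open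
      (show y.1 ∈ ((U.ι ''ᵁ V : (Spec (CommRingCat.of S)).Opens) : Set _) from ⟨y, hyV, rfl⟩) (U.ι ''ᵁ V).isOpen
    have hne := (mem_puncturedSpec_iff y.1).1 y.2
    obtain ⟨g, hgm, hgy⟩ := SetLike.not_le_iff_exists.1
      (fun h => hne ((IsLocalRing.maximalIdeal.isMaximal S).eq_of_le y.1.2.ne_top h).symm)
    have hmem : r * g ∈ IsLocalRing.maximalIdeal S := Ideal.mul_mem_left _ _ hgm
    let D : (Spec (CommRingCat.of S)).Opens := PrimeSpectrum.basicOpen (r * g)
    have hDr : D ≤ U.ι ''ᵁ V := fun z hz => hrV (PrimeSpectrum.basicOpen_mul_le_left r _ hz)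
    let W : (U : Scheme.{u}).Opens := U.ι ⁻¹ᵁ D
    have hyD : y.1 ∈ D := fun hmem' => (y.1.2.mem_or_mem hmem').elim hyr hgy
    have hWV : W ≤ V := fun w hw => by
      obtain ⟨v, hv, hvw⟩ := hDr (show w.1 ∈ D from hw)
      exact (Subtype.ext hvw : v = w) ▸ hv
    have hWD : U.ι ''ᵁ W = D := by
      refine le_antisymm (U.ι.image_preimage_le D) fun z hz => ?_
      obtain ⟨v, hv, rfl⟩ := hDr hz
      exact ⟨v, hz, rfl⟩
    have key : ∀ (V₁ : (Spec (CommRingCat.of S)).Opens), U.ι ''ᵁ W = V₁ →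
        Function.Bijective ((tilde.map (ModuleCat.ofHom ul)).app V₁) → Function.Bijective (Ψ.app W) := by
      rintro _ rfl hb
      exact hb
    refine ⟨W, hyD, hWV, key D hWD (app_bijective_of_pow ul (r * g) (fun x hx => ?_) fun z => ?_)⟩
    · obtain ⟨k, hk⟩ := exists_pow_smul_eq_zero_of_killed hu.killed_ker hmem (⟨x, hx⟩ : LinearMap.ker u)
      exact ⟨k, congrArg Subtype.val hk⟩
    · obtain ⟨k, hk⟩ := exists_pow_smul_eq_zero_of_killed hu.killed_coker hmem
        (Submodule.Quotient.mk z : Q ⧸ LinearMap.range u)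
      rw [← Submodule.Quotient.mk_smul, Submodule.Quotient.mk_eq_zero] at hk
      obtain ⟨x, hx⟩ := hk
      exact ⟨k, x, hx⟩
  exact ⟨asIso Ψ⟩

omit [IsNoetherianRing S] in
/-- The punctured spectrum of a quotient is the closed subscheme of the punctured spectrum. -/
theorem exists_iso_subscheme (J : Ideal S) [IsLocalRing (S ⧸ J)] :
    ∃ (j : (FEt.puncturedSpec (S ⧸ J) : Scheme.{u}) ⟶ (FEt.puncturedSpec S : Scheme.{u}))
      (k : (FEt.puncturedSpec (S ⧸ J) : Scheme.{u}) ≅
        ((Spec.map (CommRingCat.ofHom (Ideal.Quotient.mk J))).ker.comap (FEt.puncturedSpec S).ι).subscheme),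
      IsPullback j (FEt.puncturedSpec (S ⧸ J)).ι (FEt.puncturedSpec S).ι
        (Spec.map (CommRingCat.ofHom (Ideal.Quotient.mk J))) ∧
      k.hom ≫ ((Spec.map (CommRingCat.ofHom (Ideal.Quotient.mk J))).ker.comap (FEt.puncturedSpec S).ι).subschemeι = j := by
  obtain ⟨j, H, -⟩ := exists_isPullback_punctured (Ideal.Quotient.mk J) Ideal.Quotient.mk_surjective
  let q := Spec.map (CommRingCat.ofHom (Ideal.Quotient.mk J))
  haveI : IsClosedImmersion q := IsClosedImmersion.spec_of_surjective _ Ideal.Quotient.mk_surjective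
  let e : Spec (CommRingCat.of (S ⧸ J)) ≅ q.image := asIso q.toImage
  have he : e.inv ≫ q = q.imageι := (Iso.inv_comp_eq e).2 q.toImage_imageι.symm
  have H' : IsPullback ((q.ker.comap (FEt.puncturedSpec S).ι).subschemeι)
      ((q.ker.comapIso (FEt.puncturedSpec S).ι).hom ≫ pullback.snd _ _ ≫ e.inv) (FEt.puncturedSpec S).ι q :=
    (IsPullback.of_hasPullback (FEt.puncturedSpec S).ι q.ker.subschemeι).of_iso
      (q.ker.comapIso (FEt.puncturedSpec S).ι).symm (Iso.refl _) e.symm (Iso.refl _)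
      (by simp) (by simp only [Iso.symm_hom, Iso.inv_hom_id_assoc]) (by simp) (by simpa [e] using he.symm)
  exact ⟨j, H.isoIsPullback _ _ H', H, IsPullback.isoIsPullback_hom_fst _ _ H H'⟩

end GrothLib.SGA2Para
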