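import Groth.Agent.Lib.SGA2Para.Main
import Groth.Agent.Lib.SGA2Para.Formal
import Groth.Agent.Lib.SGA2Para.Iso

/-!
# Extending an invertible module from the punctured hypersurface section
-/

set_option autoImplicit false
set_option linter.style.haveILetI false

universe u

open IsLocalRing

namespace GrothLib.SGA2Para

variable {A : Type u} [CommRing A] [IsLocalRing A] [IsNoetherianRing A] {t : A}

/-- A map of modules killed by `t` is bijective at `P` if an evaluation carries a generator to a unit. -/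
theorem uisoAt_of_eval {N D : Type u} [AddCommGroup N] [Module A N] [AddCommGroup D] [Module A D]
    (P : Ideal A) [hP : P.IsPrime] (hNt : ∀ x : N, t • x = 0) (u : N →ₗ[A] D) (E : D →ₗ[A] Lvl t 0)
    (hE : ∃ s ∉ P, ∀ y, E y = 0 → s • y = 0)
    (n : N) (d : A) (hd : d ∉ P) (hEn : E (u n) = Ideal.Quotient.mk _ d)
    (hgen : ∀ x : N, ∃ s ∉ P, ∃ b : A, s • x = b • n) :
    (∀ x, u x = 0 → ∃ s ∉ P, s • x = 0) ∧ ∀ y, ∃ s ∉ P, ∃ x, u x = s • y := by
  obtain ⟨s₀, hs₀, hinj⟩ := hE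
  refine ⟨fun x hx => ?_, fun y => ?_⟩
  · obtain ⟨s, hs, b, hb⟩ := hgen x
    have h0 : b • E (u n) = 0 := by
      rw [← map_smul, ← map_smul, ← hb, map_smul, hx, smul_zero, map_zero]
    rw [hEn, Algebra.smul_def, Ideal.Quotient.algebraMap_eq, ← map_mul, Ideal.Quotient.eq_zero_iff_mem,
      Ideal.mem_span_singleton'] at h0
    obtain ⟨c, hc⟩ := h0
    refine ⟨d * s, fun h => (hP.mem_or_mem h).elim hd hs, ?_⟩
    rw [mul_smul, hb, smul_smul, mul_comm, ← hc, Nat.zero_add, pow_one, mul_smul, hNt, smul_zero]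
  · obtain ⟨a, ha⟩ := Ideal.Quotient.mk_surjective (E y)
    refine ⟨s₀ * d, fun h => (hP.mem_or_mem h).elim hs₀ hd, (s₀ * a) • n, ?_⟩
    have h0 : E (d • y - a • u n) = 0 := by
      rw [map_sub, map_smul, map_smul, hEn, ← ha, Algebra.smul_def, Algebra.smul_def,
        Ideal.Quotient.algebraMap_eq, mul_comm, sub_self]
    have h1 := hinj _ h0
    rw [smul_sub, sub_eq_zero, smul_smul, smul_smul] at h1
    rw [map_smul, ← h1]

namespace Tower

variable [IsLocalRing (A ⧸ Ideal.span {t})] (𝒯 : Tower t) (ht : IsSMulRegular A t)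
  (hd : (4 : ℕ∞) ≤ LocCoh.depth (A ⧸ Ideal.span {t}) (A ⧸ Ideal.span {t})) [IsAdicComplete (Ideal.span {t}) A]

include ht hd in
/-- The dual of the algebraisation agrees at the bottom with the module, off the closed point. -/
theorem exists_uiso_bottom (htm : t ∈ maximalIdeal A)
    (hloc : ∀ (P : Ideal A) [P.IsPrime], IsCurvePrime t P →
      (2 : ℕ∞) ≤ LocCoh.depth (Localization.AtPrime P) (Localization.AtPrime P) ∧
        RamSam.ModuleTriv (Localization.AtPrime P)) :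
    ∃ (H D : Type u) (_ : AddCommGroup H) (_ : Module A H) (_ : Module.Finite A H) (_ : AddCommGroup D)
      (_ : Module A D) (v : (H ⧸ Ideal.span {t} • (⊤ : Submodule A H)) →ₗ[A] D) (w : 𝒯.D 0 →ₗ[A] D),
      RamSam.GenPunct A H ∧ UIso v ∧ UIso w ∧ ∀ y : D, t • y = 0 := by
  classical
  let L := 𝒯.L ht hd
  let S₀ := 𝒯.D 0 →ₗ[A] Lvl t 0
  let ev : L →ₗ[A] S₀ := (𝒯.sys ht hd).eval
  let J : Ideal A := Ideal.span {t}
  let evL : (L ⧸ LinearMap.ker ev) →ₗ[A] S₀ := (LinearMap.ker ev).liftQ ev le_rfl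
  have hevL : UIso evL := fun P hP hne => by
    refine ⟨fun x hx => ⟨1, hP.one_notMem, ?_⟩, fun y => ?_⟩
    · obtain ⟨x, rfl⟩ := Submodule.Quotient.mk_surjective _ x
      rw [one_smul]
      exact (Submodule.Quotient.mk_eq_zero _).2 hx
    · obtain ⟨s, hs, hsy⟩ := 𝒯.killed_coker_eval ht hd P hP hne (Submodule.Quotient.mk y)
      rw [← Submodule.Quotient.mk_smul, Submodule.Quotient.mk_eq_zero] at hsy
      obtain ⟨x, hx⟩ := hsy
      exact ⟨s, hs, Submodule.Quotient.mk x, hx⟩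
  have hvan := van_lvl t ht (c := 2) (le_trans (by norm_num) hd) 0
  let η := LinearEquiv.ofBijective (LinearMap.lcomp A (Lvl t 0) evL) (precomp_bijective hvan hevL)
  have hle : ∀ h : L →ₗ[A] A, LinearMap.ker ev ≤ LinearMap.ker ((Submodule.mkQ _ : A →ₗ[A] Lvl t 0).comp h) :=
    fun h f hf => by
      obtain ⟨g', hg'⟩ := LevelSystem.ker_eval (𝒯.isExact ht hd) f (LinearMap.mem_ker.1 hf)
      rw [LinearMap.mem_ker, ← hg', map_smul]
      simpa using lvl_kill t 0 ((Submodule.mkQ _ : A →ₗ[A] Lvl t 0) (h g'))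
  let red : (L →ₗ[A] A) →ₗ[A] ((L ⧸ LinearMap.ker ev) →ₗ[A] Lvl t 0) :=
    { toFun := fun h => (LinearMap.ker ev).liftQ _ (hle h)
      map_add' := fun h h' => Submodule.linearMap_qext _ (LinearMap.ext fun f => rfl)
      map_smul' := fun r h => Submodule.linearMap_qext _ (LinearMap.ext fun f => rfl) }
  let β : (L →ₗ[A] A) →ₗ[A] (S₀ →ₗ[A] Lvl t 0) := η.symm.toLinearMap.comp red
  have hβ : ∀ h f, β h (ev f) = Ideal.Quotient.mk _ (h f) := fun h f =>
    LinearMap.congr_fun (η.apply_symm_apply (red h)) (Submodule.Quotient.mk f)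
  have hDt : ∀ y : S₀ →ₗ[A] Lvl t 0, t • y = 0 := fun y =>
    LinearMap.ext fun f => by simpa using lvl_kill t 0 (y f)
  let βq : ((L →ₗ[A] A) ⧸ J • (⊤ : Submodule A (L →ₗ[A] A))) →ₗ[A] (S₀ →ₗ[A] Lvl t 0) :=
    Submodule.liftQ _ β (Submodule.smul_le.2 fun a ha h _ => by
      obtain ⟨b, rfl⟩ := Ideal.mem_span_singleton'.1 ha
      rw [LinearMap.mem_ker, map_smul, mul_smul, hDt, smul_zero])
  have hHt : ∀ x : (L →ₗ[A] A) ⧸ J • (⊤ : Submodule A (L →ₗ[A] A)), t • x = 0 := fun x => by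
    obtain ⟨x, rfl⟩ := Submodule.Quotient.mk_surjective _ x
    rw [← Submodule.Quotient.mk_smul, Submodule.Quotient.mk_eq_zero]
    exact Submodule.smul_mem_smul (Ideal.mem_span_singleton_self t) Submodule.mem_top
  let w : 𝒯.D 0 →ₗ[A] (S₀ →ₗ[A] Lvl t 0) := LinearMap.id.flip
  haveI : Module.Finite A L := 𝒯.finite_L ht hd
  have hdata : ∀ P : Ideal A, P.IsPrime → P ≠ maximalIdeal A →
      ((∀ x, βq x = 0 → ∃ s ∉ P, s • x = 0) ∧ ∀ y, ∃ s ∉ P, ∃ x, βq x = s • y) ∧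
      ((∀ x, w x = 0 → ∃ s ∉ P, s • x = 0) ∧ ∀ y, ∃ s ∉ P, ∃ x, w x = s • y) := by
    intro P hP hne
    by_cases htP : t ∈ P
    swap
    · exact ⟨⟨fun x _ => ⟨t, htP, hHt x⟩, fun y => ⟨t, htP, 0, by rw [map_zero, hDt]⟩⟩,
        ⟨fun x _ => ⟨t, htP, by simpa using 𝒯.kill 0 x⟩, fun y => ⟨t, htP, 0, by rw [map_zero, hDt]⟩⟩⟩
    obtain ⟨f₀, s, hs, hf₀, hS0, m, c, hc, hmc⟩ := 𝒯.exists_genAt_L ht hd P hne htP
    obtain ⟨K, hK⟩ := exists_uniform_pow (M := S₀) hS0
    let E : (S₀ →ₗ[A] Lvl t 0) →ₗ[A] Lvl t 0 := LinearMap.applyₗ (ev f₀)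
    have hE : ∃ s' ∉ P, ∀ y, E y = 0 → s' • y = 0 := by
      refine ⟨s ^ K, fun h => hs (hP.mem_of_pow_mem _ h), fun y hy => LinearMap.ext fun f => ?_⟩
      obtain ⟨b, hb⟩ := hK f
      rw [LinearMap.smul_apply, LinearMap.zero_apply, ← map_smul, hb, map_smul]
      exact (congrArg (b • ·) hy).trans (smul_zero b)
    obtain ⟨φ, k, hφm, hφ⟩ := RamSam.exists_genAt_dual hf₀
    refine ⟨uisoAt_of_eval P hHt βq E hE (Submodule.Quotient.mk φ) (s ^ k) (fun h => hs (hP.mem_of_pow_mem _ h)) ?_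
      (fun x => ?_), ?_⟩
    · show β φ (ev f₀) = _
      rw [hβ, hφm]
    · obtain ⟨x, rfl⟩ := Submodule.Quotient.mk_surjective _ x
      obtain ⟨j, b, hb⟩ := hφ.1 x
      exact ⟨s ^ j, fun h => hs (hP.mem_of_pow_mem _ h), b, congrArg Submodule.Quotient.mk hb⟩
    · obtain ⟨m₀, s₀, hs₀, hgen, -⟩ := 𝒯.gen 0 P hP hne htP
      obtain ⟨j, b, hb⟩ := hgen m
      obtain ⟨e, he⟩ := Ideal.Quotient.mk_surjective (E (w m₀))
      have he' : e ∉ P := by
        intro hmem
        have h1 : s₀ ^ j • E (w m) = b • E (w m₀) := by rw [← map_smul, ← map_smul, hb, map_smul, map_smul]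
        rw [show E (w m) = Ideal.Quotient.mk _ c from hmc, ← he, Algebra.smul_def, Algebra.smul_def,
          Ideal.Quotient.algebraMap_eq, ← map_mul, ← map_mul, Ideal.Quotient.eq] at h1
        have hle : Ideal.span {t ^ (0 + 1)} ≤ P := (Ideal.span_singleton_le_iff_mem P).2 (by simpa using htP)
        have h2 : s₀ ^ j * c ∈ P := (P.sub_mem_iff_left (P.mul_mem_left _ hmem)).1 (hle h1)
        exact (hP.mem_or_mem h2).elim (fun h => hs₀ (hP.mem_of_pow_mem _ h)) hc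
      refine uisoAt_of_eval P (fun x => by simpa using 𝒯.kill 0 x) w E hE m₀ e he' he.symm (fun x => ?_)
      obtain ⟨i, b', hb'⟩ := hgen x
      exact ⟨s₀ ^ i, fun h => hs₀ (hP.mem_of_pow_mem _ h), b', hb'⟩
  exact ⟨L →ₗ[A] A, S₀ →ₗ[A] Lvl t 0, inferInstance, inferInstance, inferInstance, inferInstance, inferInstance,
    βq, w, 𝒯.genPunct_dual_L ht hd htm hloc, fun P hP hne => (hdata P hP hne).1,
    fun P hP hne => (hdata P hP hne).2, hDt⟩

end Tower

/-- An isomorphism off the closed point stays one over a quotient of the ring. -/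
theorem uiso_extendScalars {J : Ideal A} [IsLocalRing (A ⧸ J)] {N N' : Type u} [AddCommGroup N] [Module A N]
    [Module (A ⧸ J) N] [IsScalarTower A (A ⧸ J) N] [AddCommGroup N'] [Module A N'] [Module (A ⧸ J) N']
    [IsScalarTower A (A ⧸ J) N'] (u : N →ₗ[A] N') (hu : UIso u) :
    UIso (u.extendScalarsOfSurjective (S := A ⧸ J) Ideal.Quotient.mk_surjective) := fun P hP hne => by
  obtain ⟨h1, h2⟩ := hu (P.comap (Ideal.Quotient.mk J)) inferInstance (RamSam.comap_ne_maximal _ hne)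
  refine ⟨fun x hx => ?_, fun y => ?_⟩
  · obtain ⟨s, hs, hsx⟩ := h1 x hx
    exact ⟨Ideal.Quotient.mk J s, hs, by rw [← Ideal.Quotient.algebraMap_eq, IsScalarTower.algebraMap_smul, hsx]⟩
  · obtain ⟨s, hs, x, hx⟩ := h2 y
    exact ⟨Ideal.Quotient.mk J s, hs, x, by
      rw [← Ideal.Quotient.algebraMap_eq, IsScalarTower.algebraMap_smul]; exact hx⟩

open CategoryTheory AlgebraicGeometry in
/-- Every invertible module on the punctured hypersurface section extends. -/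
theorem picPullbackSurjective [IsLocalRing (A ⧸ Ideal.span {t})] [IsAdicComplete (Ideal.span {t}) A]
    (ht : IsSMulRegular A t) (htm : t ∈ maximalIdeal A)
    (hd : (4 : ℕ∞) ≤ LocCoh.depth (A ⧸ Ideal.span {t}) (A ⧸ Ideal.span {t}))
    (hloc : ∀ (P : Ideal A) [P.IsPrime], IsCurvePrime t P →
      (2 : ℕ∞) ≤ LocCoh.depth (Localization.AtPrime P) (Localization.AtPrime P) ∧
        RamSam.ModuleTriv (Localization.AtPrime P)) :
    Formal2.PicPullbackSurjective (((Spec.map (CommRingCat.ofHom (Ideal.Quotient.mk (Ideal.span {t})))).ker.comap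
      (FEt.puncturedSpec A).ι)).subschemeι := by
  intro L' hL'
  let J : Ideal A := Ideal.span {t}
  obtain ⟨j, k, Hj, hk⟩ := exists_iso_subscheme J
  let L₀ := (Scheme.Modules.pullback k.hom).obj L'
  obtain ⟨M, _, _, _, hM, ⟨e⟩⟩ :=
    exists_genPunct_presentation (S := A ⧸ J) L₀ (Ample.isInvertible_pullback k.hom hL')
  letI : Module A M := Module.compHom M (Ideal.Quotient.mk J)
  haveI : IsScalarTower A (A ⧸ J) M := IsScalarTower.of_algebraMap_smul fun _ _ => rfl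
  haveI : Module.Finite A M := Module.Finite.trans (A ⧸ J) M
  obtain ⟨𝒯, ⟨e₀⟩⟩ := exists_tower ht htm hd M hM
  obtain ⟨H, D, _, _, _, _, _, v, w, hH, hv, hw, hDt⟩ := 𝒯.exists_uiso_bottom ht hd htm hloc
  have hDtor : Module.IsTorsionBySet A D (J : Set A) := fun y a => by
    obtain ⟨b, hb⟩ := Ideal.mem_span_singleton'.1 a.2
    show (a : A) • y = 0
    rw [← hb, mul_smul, hDt, smul_zero]
  letI := hDtor.module
  haveI : IsScalarTower A (A ⧸ J) D := hDtor.isScalarTower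
  have hw' : UIso (w.comp e₀.toLinearMap) := by
    refine UIso.comp (fun P hP hne => ⟨fun x hx => ⟨1, hP.one_notMem, ?_⟩,
      fun y => ⟨1, hP.one_notMem, e₀.symm y, ?_⟩⟩) hw
    · rw [one_smul]
      exact e₀.injective (hx.trans (map_zero e₀).symm)
    · rw [one_smul]
      exact e₀.apply_symm_apply y
  obtain ⟨α⟩ := nonempty_iso_of_uiso _ (uiso_extendScalars (J := J) v hv)
  obtain ⟨γ⟩ := nonempty_iso_of_uiso _ (uiso_extendScalars (J := J) _ hw')
  obtain ⟨i⟩ := nonempty_pullback_restrict_iso J j Hj.w H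
  refine ⟨_, RamSam.isInvertible_restrict_tilde H hH, ⟨?_⟩⟩
  have hk' : (((Spec.map (CommRingCat.ofHom (Ideal.Quotient.mk J))).ker.comap
      (FEt.puncturedSpec A).ι)).subschemeι = k.inv ≫ j := by rw [← hk, Iso.inv_hom_id_assoc]
  exact (Scheme.Modules.pullbackCongr hk').app _ ≪≫ ((Scheme.Modules.pullbackComp k.inv j).app _).symm ≪≫
    (Scheme.Modules.pullback k.inv).mapIso (i.symm ≪≫ α ≪≫ γ.symm ≪≫ e) ≪≫
    (Scheme.Modules.pullbackComp k.inv k.hom).app _ ≪≫
    (Scheme.Modules.pullbackCongr k.inv_hom_id).app _ ≪≫ (Scheme.Modules.pullbackId _).app _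

end GrothLib.SGA2Para
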