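import Groth.Agent.Lib.SGA2Para.Algebraise
import Groth.Agent.Lib.RamSam.ModuleTriv
import Groth.Agent.Lib.RamSam.PullPunct
import Mathlib.LinearAlgebra.Matrix.Charpoly.LinearMap
import Mathlib.Algebra.Module.FinitePresentation

/-!
# Trivial punctured Picard group passes to a hypersurface section

If the punctured Picard groups of `A` and of its localisations at the curve primes off `V(t)` are trivial, then the
bottom of a formal invertible module along `t` is trivial.
-/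

set_option autoImplicit false
set_option linter.style.haveILetI false

universe u

open IsLocalRing

namespace GrothLib.SGA2Para

section general

variable {A : Type u} [CommRing A]

/-- Nakayama at a prime, elementwise. -/
theorem exists_notMem_smul_eq_zero (P : Ideal A) [P.IsPrime] {t u : A} (ht : t ∈ P) (hu : u ∉ P)
    {N : Type u} [AddCommGroup N] [Module A N] [Module.Finite A N] (h : ∀ x : N, ∃ y, u • x = t • y) :
    ∃ w ∉ P, ∀ x : N, w • x = 0 := by
  let f : Module.End A N := algebraMap A (Module.End A N) u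
  have hf : LinearMap.range f ≤ Ideal.span {t} • ⊤ := by
    rintro _ ⟨x, rfl⟩
    obtain ⟨y, hy⟩ := h x
    rw [show f x = u • x from rfl, hy]
    exact Submodule.smul_mem_smul (Ideal.mem_span_singleton_self t) Submodule.mem_top
  obtain ⟨p, hp, -, hcoeff, hp0⟩ :=
    LinearMap.exists_monic_and_natDegree_eq_and_coeff_mem_pow_and_aeval_eq_zero A f (Ideal.span {t}) hf
  refine ⟨p.eval u, fun hmem => hu ?_, fun x => ?_⟩
  · refine ‹P.IsPrime›.mem_of_pow_mem p.natDegree ?_
    rw [Polynomial.eval_eq_sum_range, Finset.sum_range_succ, hp.coeff_natDegree, one_mul] at hmem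
    refine (Ideal.add_mem_iff_right P (Submodule.sum_mem _ fun i hi => Ideal.mul_mem_right _ _ ?_)).1 hmem
    refine (Ideal.span_singleton_le_iff_mem P).2 ht (Ideal.pow_le_self ?_ (hcoeff i))
    have := Finset.mem_range.1 hi
    omega
  · rw [Polynomial.aeval_algebraMap_apply] at hp0
    exact LinearMap.congr_fun hp0 x

/-- A generator at a prime, from pointwise data. -/
theorem exists_genAt_of_prime [IsNoetherianRing A] (P : Ideal A) [P.IsPrime]
    {H : Type u} [AddCommGroup H] [Module A H] [Module.Finite A H] {φ : H}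
    (hgen : ∀ f : H, ∃ w ∉ P, ∃ b : A, w • f = b • φ) (hkill : ∀ b : A, b • φ = 0 → ∃ w ∉ P, w * b = 0) :
    ∃ s ∉ P, RamSam.GenAt φ s := by
  classical
  obtain ⟨r, x, hx⟩ := Module.Finite.exists_fin (R := A) (M := H)
  choose w hw b hb using fun i => hgen (x i)
  obtain ⟨q, z, hz⟩ := Submodule.fg_iff_exists_fin_generating_family.1
    (IsNoetherian.noetherian (LinearMap.ker (LinearMap.toSpanSingleton A H φ)))
  choose v hv hvz using fun i => hkill (z i)
    (LinearMap.mem_ker.1 (hz ▸ Submodule.subset_span ⟨i, rfl⟩ : z i ∈ LinearMap.ker (LinearMap.toSpanSingleton A H φ)))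
  refine ⟨(∏ i, w i) * ∏ i, v i, fun h => ?_, fun f => ?_, fun c hc => ?_⟩
  · rcases ‹P.IsPrime›.mem_or_mem h with h' | h'
    · obtain ⟨i, -, hi⟩ := Ideal.IsPrime.prod_mem_iff.1 h'
      exact hw i hi
    · obtain ⟨i, -, hi⟩ := Ideal.IsPrime.prod_mem_iff.1 h'
      exact hv i hi
  · refine ⟨1, ?_⟩
    rw [pow_one]
    have hf : f ∈ Submodule.span A (Set.range x) := hx ▸ Submodule.mem_top
    induction hf using Submodule.span_induction with
    | mem y hy =>
      obtain ⟨i, rfl⟩ := hy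
      refine ⟨(∏ j, v j) * (∏ j ∈ Finset.univ.erase i, w j) * b i, ?_⟩
      rw [← Finset.mul_prod_erase _ w (Finset.mem_univ i), mul_smul _ (b i) φ, ← hb, smul_smul]
      congr 1
      ring
    | zero => exact ⟨0, by simp⟩
    | add y z _ _ hy hz =>
      obtain ⟨c, hc⟩ := hy
      obtain ⟨d, hd⟩ := hz
      exact ⟨c + d, by rw [smul_add, hc, hd, add_smul]⟩
    | smul a y _ hy =>
      obtain ⟨c, hc⟩ := hy
      exact ⟨a * c, by rw [smul_comm, hc, smul_smul]⟩
  · refine ⟨1, ?_⟩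
    rw [pow_one]
    have hmem : c ∈ Submodule.span A (Set.range z) := by
      rw [hz]
      exact hc
    generalize c = c' at hmem ⊢
    induction hmem using Submodule.span_induction with
    | mem y hy =>
      obtain ⟨i, rfl⟩ := hy
      rw [← Finset.mul_prod_erase _ v (Finset.mem_univ i)]
      linear_combination (∏ j, w j) * (∏ j ∈ Finset.univ.erase i, v j) * hvz i
    | zero => simp
    | add y z _ _ hy hz => rw [mul_add, hy, hz, add_zero]
    | smul a y _ hy => rw [smul_eq_mul, mul_left_comm, hy, mul_zero]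

/-- A module of finite length is killed off the closed point. -/
theorem killed_of_isArtinian [IsLocalRing A] [IsNoetherianRing A] (M : Type u) [AddCommGroup M] [Module A M] [Module.Finite A M]
    [IsArtinian A M] : Killed A M := by
  intro P hP hne x
  obtain ⟨s, hsm, hs⟩ := SetLike.not_le_iff_exists.1
    (fun h => hne ((maximalIdeal.isMaximal A).eq_of_le hP.ne_top h).symm)
  obtain ⟨n, hn⟩ := IsArtinian.range_smul_pow_stabilizes M s
  let N : Submodule A M := LinearMap.range (s ^ n • LinearMap.id : M →ₗ[A] M)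
  have hN : N ≤ Ideal.span {s} • N := by
    rintro _ ⟨y, rfl⟩
    have hy : (s ^ n • LinearMap.id : M →ₗ[A] M) y ∈ LinearMap.range (s ^ (n + 1) • LinearMap.id : M →ₗ[A] M) :=
      (hn (n + 1) n.le_succ) ▸ LinearMap.mem_range_self _ y
    obtain ⟨z, hz⟩ := hy
    rw [← hz]
    simp only [LinearMap.smul_apply, LinearMap.id_apply, pow_succ', mul_smul]
    exact Submodule.smul_mem_smul (Ideal.mem_span_singleton_self s) ⟨z, rfl⟩
  have h0 := Submodule.eq_bot_of_le_smul_of_le_jacobson_bot (Ideal.span {s}) N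
    (IsNoetherian.noetherian N)
    hN (((Ideal.span_singleton_le_iff_mem _).2 hsm).trans (maximalIdeal_le_jacobson ⊥))
  refine ⟨s ^ n, fun h => hs (hP.mem_of_pow_mem _ h), ?_⟩
  have hmem : s ^ n • x ∈ N := ⟨x, rfl⟩
  rwa [h0, Submodule.mem_bot] at hmem

end general

variable {A : Type u} [CommRing A] [IsLocalRing A] [IsNoetherianRing A] {t : A}

/-- A prime off `V(t)` all of whose specialisations in `V(t)` are the closed point. -/
def IsCurvePrime (t : A) (P : Ideal A) : Prop :=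
  P ≠ maximalIdeal A ∧ t ∉ P ∧ ∀ Q : Ideal A, Q.IsPrime → P ≤ Q → t ∈ Q → Q = maximalIdeal A

theorem not_isCurvePrime_of_lt {p P : Ideal A} [p.IsPrime] [P.IsPrime] (htm : t ∈ maximalIdeal A) (h : p < P)
    (hP : P ≠ maximalIdeal A) : ¬ IsCurvePrime t p := by
  rintro ⟨-, htp, hQ⟩
  haveI : IsDomain (A ⧸ p) := (Ideal.Quotient.isDomain_iff_prime p).2 inferInstance
  haveI : IsLocalRing (A ⧸ p) := IsLocalRing.of_surjective' _ Ideal.Quotient.mk_surjective
  let m := maximalIdeal (A ⧸ p)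
  let t' := Ideal.Quotient.mk p t
  have hmin : m ∈ (Ideal.span {t'}).minimalPrimes := by
    refine ⟨⟨inferInstance, (Ideal.span_singleton_le_iff_mem _).2 ?_⟩, fun q ⟨hq, hle⟩ _ => ?_⟩
    · rw [mem_maximalIdeal, mem_nonunits_iff]
      intro hu
      exact (mem_maximalIdeal t).1 htm ((IsLocalHom.of_surjective _ Ideal.Quotient.mk_surjective).map_nonunit t hu)
    · have h1 := hQ (q.comap (Ideal.Quotient.mk p)) inferInstance
        (fun x hx => by rw [Ideal.mem_comap, Ideal.Quotient.eq_zero_iff_mem.2 hx]; exact zero_mem q)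
        (hle (Ideal.mem_span_singleton_self t'))
      have h2 : q = (maximalIdeal A).map (Ideal.Quotient.mk p) := by
        rw [← h1, Ideal.map_comap_of_surjective _ Ideal.Quotient.mk_surjective]
      exact (h2.trans (IsLocalRing.map_maximalIdeal_of_surjective _ Ideal.Quotient.mk_surjective)).ge
  have hht := Ideal.height_le_one_of_isPrincipal_of_mem_minimalPrimes (Ideal.span {t'}) m hmin
  have hle : RingHom.ker (Ideal.Quotient.mk p) ≤ P := by rw [Ideal.mk_ker]; exact h.le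
  let P' : Ideal (A ⧸ p) := P.map (Ideal.Quotient.mk p)
  haveI : P'.IsPrime := Ideal.map_isPrime_of_surjective Ideal.Quotient.mk_surjective hle
  have hcomap : P'.comap (Ideal.Quotient.mk p) = P := by
    rw [Ideal.comap_map_of_surjective _ Ideal.Quotient.mk_surjective, ← RingHom.ker_eq_comap_bot, sup_eq_left.2 hle]
  have h1 : (⊥ : Ideal (A ⧸ p)) < P' := bot_lt_iff_ne_bot.2 fun hb => h.ne (by
    rw [← hcomap, hb, ← RingHom.ker_eq_comap_bot, Ideal.mk_ker])
  have h2 : P' < m := lt_of_le_of_ne (IsLocalRing.le_maximalIdeal (Ideal.IsPrime.ne_top inferInstance)) fun he => hP (by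
    rw [← hcomap, he]
    exact IsLocalRing.eq_maximalIdeal (Ideal.comap_isMaximal_of_surjective _ Ideal.Quotient.mk_surjective))
  haveI : (⊥ : Ideal (A ⧸ p)).IsPrime := Ideal.isPrime_bot
  have h3 := Ideal.height_add_one_le_of_lt_of_isPrime h1
  have h4 := Ideal.height_add_one_le_of_lt_of_isPrime h2
  have : (2 : ℕ∞) ≤ m.height := le_trans (le_trans (by norm_num) (add_le_add (le_trans le_add_self h3) le_rfl)) h4
  exact absurd (this.trans hht) (by decide)

namespace Tower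

variable [IsLocalRing (A ⧸ Ideal.span {t})] (𝒯 : Tower t) (ht : IsSMulRegular A t)
  (hd : (4 : ℕ∞) ≤ LocCoh.depth (A ⧸ Ideal.span {t}) (A ⧸ Ideal.span {t}))

/-- The algebraisation. -/
noncomputable abbrev L : Submodule A (∀ n, (𝒯.sys ht hd).S n) := (𝒯.sys ht hd).lim

instance isNoetherian_sys_zero : IsNoetherian A ((𝒯.sys ht hd).S 0) :=
  inferInstanceAs (IsNoetherian A (𝒯.D 0 →ₗ[A] Lvl t 0))

theorem killed_coker_eval :
    Killed A ((𝒯.sys ht hd).S 0 ⧸ LinearMap.range (𝒯.sys ht hd).eval) := by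
  obtain ⟨N, hN⟩ := LevelSystem.exists_lim_of_stable (𝒯.isExact ht hd) 𝒯.bound (𝒯.length_le ht hd) 𝒯.bound_ne_top
  rw [hN]
  haveI : IsArtinian A ((𝒯.sys ht hd).S 0 ⧸ (𝒯.sys ht hd).G N 0) :=
    (isFiniteLength_iff_isNoetherian_isArtinian.1
      (Module.length_ne_top_iff.1 (ne_top_of_le_ne_top 𝒯.bound_ne_top (𝒯.length_le ht hd N)))).2
  exact killed_of_isArtinian _

variable [IsAdicComplete (Ideal.span {t}) A]

instance finite_L : Module.Finite A (𝒯.L ht hd) := LevelSystem.finite_lim (𝒯.isExact ht hd)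

/-- Generators of the algebraisation at the primes in `V(t)`. -/
theorem exists_genAt_L (P : Ideal A) [hP : P.IsPrime] (hne : P ≠ maximalIdeal A) (htP : t ∈ P) :
    ∃ (f₀ : 𝒯.L ht hd) (s : A), s ∉ P ∧ RamSam.GenAt f₀ s ∧
      (∀ f : 𝒯.D 0 →ₗ[A] Lvl t 0, ∃ (k : ℕ) (b : A), s ^ k • f = b • (𝒯.sys ht hd).eval f₀) ∧
      ∃ (m : 𝒯.D 0) (c : A), c ∉ P ∧ (show 𝒯.D 0 →ₗ[A] Lvl t 0 from (𝒯.sys ht hd).eval f₀) m = Ideal.Quotient.mk _ c := by
  classical
  obtain ⟨m, s, hs, hgen, hkill⟩ := 𝒯.gen 0 P hP hne htP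
  -- a functional generating at `P`
  let J : Ideal A := Ideal.span {t}
  let Q := 𝒯.D 0 ⧸ J • (⊤ : Submodule A (𝒯.D 0))
  haveI : Module.Finite (A ⧸ J) Q := Module.Finite.of_restrictScalars_finite A _ _
  have h0 : J • (⊤ : Submodule A (𝒯.D 0)) = ⊥ := by
    rw [eq_bot_iff, Submodule.smul_le]
    intro a ha y _
    obtain ⟨c, rfl⟩ := Ideal.mem_span_singleton'.1 ha
    rw [Submodule.mem_bot, mul_smul, show t • y = 0 by simpa using 𝒯.kill 0 y, smul_zero]
  have hQ : RamSam.GenAt (B := A ⧸ J) (Submodule.Quotient.mk m : Q) (Ideal.Quotient.mk J s) := by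
    refine ⟨fun x => ?_, fun b hb => ?_⟩
    · obtain ⟨x, rfl⟩ := Submodule.Quotient.mk_surjective _ x
      obtain ⟨k, b, hk⟩ := hgen x
      refine ⟨k, Ideal.Quotient.mk _ b, ?_⟩
      rw [← map_pow]
      exact congrArg Submodule.Quotient.mk hk
    · obtain ⟨b, rfl⟩ := Ideal.Quotient.mk_surjective b
      have hmem : b • m ∈ J • (⊤ : Submodule A (𝒯.D 0)) := (Submodule.Quotient.mk_eq_zero _).1 hb
      rw [h0, Submodule.mem_bot] at hmem
      obtain ⟨k, hk⟩ := hkill b hmem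
      refine ⟨k, ?_⟩
      rw [← map_pow, ← map_mul, Ideal.Quotient.eq_zero_iff_mem]
      simpa using hk
  obtain ⟨φb, k₀, hφb⟩ := RamSam.exists_functional hQ
  let e : (A ⧸ J) ≃ₗ[A] Lvl t 0 := Submodule.quotEquivOfEq _ _ (by simp [J])
  let φ : 𝒯.D 0 →ₗ[A] Lvl t 0 := e.toLinearMap.comp ((φb.restrictScalars A).comp (Submodule.mkQ _))
  have hφ : φ m = Ideal.Quotient.mk _ (s ^ k₀) := by
    show e (φb (Submodule.Quotient.mk m)) = _
    rw [hφb, ← map_pow]
    rfl
  obtain ⟨K, hK⟩ := exists_uniform_pow hgen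
  have hS0 : ∀ f : 𝒯.D 0 →ₗ[A] Lvl t 0, ∃ b : A, s ^ (K + k₀) • f = b • φ := by
    intro f
    obtain ⟨c, hc⟩ := Ideal.Quotient.mk_surjective (f m)
    refine ⟨s ^ K * c, LinearMap.ext fun x => ?_⟩
    obtain ⟨b, hb⟩ := hK x
    have h1 : s ^ K • f x = b • f m := by rw [← map_smul, hb, map_smul]
    have h2 : s ^ K • φ x = b • φ m := by rw [← map_smul, hb, map_smul]
    have hfm : s ^ k₀ • f m = c • φ m := by
      rw [hφ, ← hc, Algebra.smul_def, Algebra.smul_def, Ideal.Quotient.algebraMap_eq, mul_comm]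
    rw [LinearMap.smul_apply, LinearMap.smul_apply, pow_add s K k₀, mul_comm (s ^ K) (s ^ k₀), mul_smul, h1, smul_comm, hfm,
      mul_comm (s ^ K) c, mul_smul c, h2, smul_comm]
  have hkillS : ∀ b : A, b • φ = 0 → s ^ k₀ * b ∈ J := fun b hb => by
    have h1 := LinearMap.congr_fun hb m
    rw [LinearMap.smul_apply, hφ, LinearMap.zero_apply, Algebra.smul_def, Ideal.Quotient.algebraMap_eq, ← map_mul,
      Ideal.Quotient.eq_zero_iff_mem, mul_comm] at h1
    simpa [J] using h1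
  obtain ⟨s₁, hs₁, hφ₁⟩ := 𝒯.killed_coker_eval ht hd P hP hne (Submodule.Quotient.mk φ)
  obtain ⟨f₀, hf₀⟩ := (Submodule.Quotient.mk_eq_zero _).1 hφ₁
  let ev : 𝒯.L ht hd →ₗ[A] (𝒯.D 0 →ₗ[A] Lvl t 0) := (𝒯.sys ht hd).eval
  have hev : ev f₀ = s₁ • φ := hf₀
  let u := s₁ * s
  have hu : u ∉ P := fun h => (hP.mem_or_mem h).elim hs₁ hs
  -- generation
  let N := 𝒯.L ht hd ⧸ Submodule.span A {f₀}
  have hN : ∀ x : N, ∃ y : N, (s₁ * s ^ (K + k₀)) • x = t • y := by
    intro x
    obtain ⟨f, rfl⟩ := Submodule.Quotient.mk_surjective _ x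
    obtain ⟨b, hb⟩ := hS0 (ev f)
    obtain ⟨g, hg⟩ := LevelSystem.ker_eval (𝒯.isExact ht hd) ((s₁ * s ^ (K + k₀)) • f - b • f₀) (by
      show ev _ = 0
      rw [map_sub, map_smul, map_smul, hev, mul_smul, hb, smul_comm, sub_self])
    refine ⟨Submodule.Quotient.mk g, ?_⟩
    rw [← Submodule.Quotient.mk_smul, ← Submodule.Quotient.mk_smul, Submodule.Quotient.eq, hg, sub_sub_cancel]
    exact Submodule.smul_mem _ _ (Submodule.mem_span_singleton_self f₀)
  obtain ⟨w, hw, hwN⟩ := exists_notMem_smul_eq_zero P htP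
    (fun h => (hP.mem_or_mem h).elim hs₁ fun h' => hs (hP.mem_of_pow_mem _ h')) hN
  -- the annihilator
  let 𝔟 : Submodule A A := LinearMap.ker (LinearMap.toSpanSingleton A (𝒯.L ht hd) f₀)
  have hb𝔟 : ∀ b : 𝔟, ∃ c : 𝔟, (s₁ * s ^ k₀) • b = t • c := by
    rintro ⟨b, hb⟩
    have hb' : b • f₀ = 0 := hb
    have h1 : (b * s₁) • φ = 0 := by
      rw [mul_smul, ← hev, ← map_smul, hb', map_zero]
    obtain ⟨c, hc⟩ := Ideal.mem_span_singleton'.1 (hkillS _ h1)
    refine ⟨⟨c, LinearMap.mem_ker.2 ((LevelSystem.isSMulRegular_lim (𝒯.sys ht hd)) ?_)⟩, Subtype.ext ?_⟩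
    · show t • c • f₀ = t • 0
      rw [smul_zero, smul_smul, mul_comm, hc, show s ^ k₀ * (b * s₁) = (s ^ k₀ * s₁) * b by ring, mul_smul, hb', smul_zero]
    · show (s₁ * s ^ k₀) * b = t * c
      linear_combination -hc
  haveI : Module.Finite A 𝔟 := Module.Finite.iff_fg.2 (IsNoetherian.noetherian 𝔟)
  obtain ⟨v, hv, hv𝔟⟩ := exists_notMem_smul_eq_zero P htP
    (fun h => (hP.mem_or_mem h).elim hs₁ fun h' => hs (hP.mem_of_pow_mem _ h')) hb𝔟
  refine ⟨f₀, w * v * u, fun h => (hP.mem_or_mem h).elim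
    (fun h' => (hP.mem_or_mem h').elim hw hv) hu, ⟨fun f => ?_, fun b hb => ?_⟩, fun f => ?_, m, s₁ * s ^ k₀, ?_, ?_⟩
  · obtain ⟨a, ha⟩ := Submodule.mem_span_singleton.1 ((Submodule.Quotient.mk_eq_zero _).1 (hwN (Submodule.Quotient.mk f)))
    refine ⟨1, v * u * a, ?_⟩
    rw [pow_one, mul_smul (v * u), ha, smul_smul]
    congr 1
    ring
  · refine ⟨1, ?_⟩
    have h := congrArg Subtype.val (hv𝔟 ⟨b, hb⟩)
    rw [pow_one, show w * v * u * b = w * u * (v * b) by ring, show v * b = 0 from h, mul_zero]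
  · obtain ⟨b, hb⟩ := hS0 f
    refine ⟨K + k₀ + 1, (w * v) ^ (K + k₀ + 1) * s₁ ^ (K + k₀) * s * b, ?_⟩
    show _ = _ • ev f₀
    refine Eq.trans ?_ (congrArg (((w * v) ^ (K + k₀ + 1) * s₁ ^ (K + k₀) * s * b) • ·) hev).symm
    refine Eq.trans ?_ (mul_smul ((w * v) ^ (K + k₀ + 1) * s₁ ^ (K + k₀) * s * b) s₁ φ)
    rw [show (w * v * u) ^ (K + k₀ + 1) =
      ((w * v) ^ (K + k₀ + 1) * s₁ ^ (K + k₀) * s * s₁) * s ^ (K + k₀) by ring,
      mul_smul, hb, smul_smul]
    congr 1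
    ring
  · exact fun h => (hP.mem_or_mem h).elim hs₁ fun h' => hs (hP.mem_of_pow_mem _ h')
  · show ev f₀ m = _
    rw [hev, LinearMap.smul_apply, hφ, Algebra.smul_def, Ideal.Quotient.algebraMap_eq, ← map_mul]

/-- The dual of the algebraisation is free of rank one off the closed point. -/
theorem genPunct_dual_L (htm : t ∈ maximalIdeal A)
    (hloc : ∀ (P : Ideal A) [P.IsPrime], IsCurvePrime t P →
      (2 : ℕ∞) ≤ LocCoh.depth (Localization.AtPrime P) (Localization.AtPrime P) ∧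
        RamSam.ModuleTriv (Localization.AtPrime P)) :
    RamSam.GenPunct A ((𝒯.L ht hd) →ₗ[A] A) := by
  classical
  have hgood : ∀ P : Ideal A, P.IsPrime → P ≠ maximalIdeal A → ¬ IsCurvePrime t P →
      ∃ (f : 𝒯.L ht hd) (s : A), s ∉ P ∧ RamSam.GenAt f s := by
    intro P hP hne hc
    obtain ⟨Q, hQ, hPQ, htQ, hQne⟩ : ∃ Q : Ideal A, Q.IsPrime ∧ P ≤ Q ∧ t ∈ Q ∧ Q ≠ maximalIdeal A := by
      by_cases htP : t ∈ P
      · exact ⟨P, hP, le_rfl, htP, hne⟩
      · by_contra hno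
        exact hc ⟨hne, htP, fun Q hQ hPQ htQ => by_contra fun hQne => hno ⟨Q, hQ, hPQ, htQ, hQne⟩⟩
    obtain ⟨f, s, hs, hf, -⟩ := 𝒯.exists_genAt_L ht hd Q (hP := hQ) hQne htQ
    exact ⟨f, s, fun h => hs (hPQ h), hf⟩
  intro P hP hne
  by_cases hc : IsCurvePrime t P
  swap
  · obtain ⟨f, s, hs, hf⟩ := hgood P hP hne hc
    obtain ⟨φ, _, _, hφ⟩ := RamSam.exists_genAt_dual hf
    exact ⟨φ, s, hs, hφ⟩
  obtain ⟨hdep, htriv⟩ := hloc P hc
  let A' := Localization.AtPrime P
  let L' := LocalizedModule P.primeCompl (𝒯.L ht hd)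
  let ι : 𝒯.L ht hd →ₗ[A] L' := LocalizedModule.mkLinearMap P.primeCompl (𝒯.L ht hd)
  haveI : Module.Finite A' L' := Module.Finite.of_isLocalizedModule P.primeCompl ι
  have hgen' : RamSam.GenPunct A' L' := by
    intro P' hP' hne'
    let p := P'.comap (algebraMap A A')
    have hp : p.IsPrime := inferInstance
    have hpP : p < P := by
      refine lt_of_le_of_ne ?_ fun he => hne' ?_
      · exact (Ideal.comap_mono (f := algebraMap A A') (IsLocalRing.le_maximalIdeal hP'.ne_top)).trans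
          (IsLocalization.AtPrime.under_maximalIdeal A' P).le
      · have h1 : (P'.comap (algebraMap A A')).map (algebraMap A A') = P' := IsLocalization.map_under P.primeCompl A' P'
        rw [show P'.comap (algebraMap A A') = P from he, Localization.AtPrime.map_eq_maximalIdeal] at h1
        exact h1.symm
    obtain ⟨f, s, hs, hf⟩ := hgood p hp (fun he => absurd (hpP.trans_le (IsLocalRing.le_maximalIdeal hP.ne_top))
      (he ▸ lt_irrefl _)) (not_isCurvePrime_of_lt htm hpP hc.1)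
    refine ⟨ι f, algebraMap A A' s, hs, fun x => ?_, fun b hb => ?_⟩
    · obtain ⟨⟨y, w⟩, hy⟩ := IsLocalizedModule.surj P.primeCompl ι x
      obtain ⟨k, c, hc'⟩ := hf.1 y
      refine ⟨k, IsLocalization.mk' A' c w, ?_⟩
      have hy' : (w : A) • x = ι y := hy
      have key : algebraMap A A' (w : A) • (algebraMap A A' s ^ k • x) =
          algebraMap A A' (w : A) • (IsLocalization.mk' A' c w • ι f) := by
        rw [smul_smul, smul_smul, IsLocalization.mk'_spec', mul_comm, mul_smul, IsScalarTower.algebraMap_smul,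
          IsScalarTower.algebraMap_smul, hy', ← map_pow, IsScalarTower.algebraMap_smul, ← map_smul, hc', map_smul]
      exact (IsLocalization.map_units A' w).smul_left_cancel.1 key
    · obtain ⟨⟨c, w⟩, hcw⟩ := IsLocalization.surj P.primeCompl b
      have h1 : ι (c • f) = 0 := by
        rw [map_smul, ← IsScalarTower.algebraMap_smul A' c (ι f), ← hcw, mul_comm, mul_smul, hb, smul_zero]
      obtain ⟨v, hv⟩ := (IsLocalizedModule.eq_zero_iff P.primeCompl ι).1 h1
      have hv' : ((v : A) * c) • f = 0 := by rw [mul_smul]; exact hv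
      obtain ⟨k, hk⟩ := hf.2 _ hv'
      refine ⟨k, (IsLocalization.map_units A' w).mul_left_eq_zero.1 ?_⟩
      rw [mul_assoc, hcw]
      refine (IsLocalization.map_units A' v).mul_right_eq_zero.1 ?_
      rw [← map_pow, ← map_mul, ← map_mul, mul_left_comm, hk, map_zero]
  obtain ⟨ψ', hψ'⟩ := htriv L' hgen'
  have hbij := RamSam.bijective_smul_of_isTrivPunct (M := L') hdep ψ' hψ'
  haveI : Module.FinitePresentation A (𝒯.L ht hd) := Module.finitePresentation_of_finite A _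
  obtain ⟨φ, σ, hφ⟩ := Module.FinitePresentation.exists_lift_of_isLocalizedModule P.primeCompl
    (Algebra.linearMap A A') ((ψ'.restrictScalars A).comp ι)
  have hφ' : ∀ x, algebraMap A A' (φ x) = (σ : A) • ψ' (ι x) := fun x => LinearMap.congr_fun hφ x
  have hext : ∀ G : L' →ₗ[A'] A', (∀ x, G (ι x) = 0) → G = 0 := fun G hG => LinearMap.ext fun x => by
    obtain ⟨⟨y, w⟩, hy⟩ := IsLocalizedModule.surj P.primeCompl ι x
    have h1 : algebraMap A A' (w : A) * G x = 0 := by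
      rw [← smul_eq_mul, ← map_smul, IsScalarTower.algebraMap_smul, show (w : A) • x = ι y from hy, hG]
    exact (IsLocalization.map_units A' w).mul_right_eq_zero.1 h1
  have hA₁ : ∀ f : 𝒯.L ht hd →ₗ[A] A, ∃ w ∉ P, ∃ b : A, w • f = b • φ := by
    intro f
    let F₀ : L' →ₗ[A] A' := IsLocalizedModule.map P.primeCompl ι (Algebra.linearMap A A') f
    obtain ⟨c, hc'⟩ := hbij.2 (F₀.extendScalarsOfIsLocalization P.primeCompl A')
    obtain ⟨⟨c₀, w₀⟩, hcw⟩ := IsLocalization.surj P.primeCompl c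
    have heq : ∀ x, algebraMap A A' ((((σ : A) * w₀) • f - c₀ • φ) x) = 0 := fun x => by
      have h1 : c * ψ' (ι x) = algebraMap A A' (f x) :=
        (LinearMap.congr_fun hc' (ι x)).trans (IsLocalizedModule.map_apply P.primeCompl ι (Algebra.linearMap A A') f x)
      rw [LinearMap.sub_apply, LinearMap.smul_apply, LinearMap.smul_apply, smul_eq_mul, smul_eq_mul, map_sub,
        map_mul, map_mul, map_mul, hφ', Algebra.smul_def, ← hcw, ← h1]
      ring
    have hall : ∃ v : P.primeCompl, (v : A) • (((σ : A) * w₀) • f - c₀ • φ) = 0 := by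
      obtain ⟨r, x, hx⟩ := Module.Finite.exists_fin (R := A) (M := 𝒯.L ht hd)
      choose v hv using fun i => (IsLocalization.map_eq_zero_iff P.primeCompl A' _).1 (heq (x i))
      refine ⟨∏ i, v i, LinearMap.ext_on hx (Set.forall_mem_range.2 fun i => ?_)⟩
      rw [LinearMap.smul_apply, LinearMap.zero_apply, Submonoid.coe_finsetProd,
        ← Finset.mul_prod_erase _ _ (Finset.mem_univ i), mul_comm, smul_eq_mul, mul_assoc, hv, mul_zero]
    obtain ⟨v, hv⟩ := hall
    refine ⟨(v : A) * ((σ : A) * w₀), fun h => ?_, (v : A) * c₀, ?_⟩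
    · exact (hP.mem_or_mem h).elim v.2 fun h' => (hP.mem_or_mem h').elim σ.2 w₀.2
    · rw [smul_sub, sub_eq_zero] at hv
      rw [mul_smul, hv, smul_smul]
  have hA₂ : ∀ b : A, b • φ = 0 → ∃ w ∉ P, w * b = 0 := by
    intro b hb
    have h0 : algebraMap A A' b • ψ' = 0 := hext _ fun x => by
      refine (IsLocalization.map_units A' σ).mul_right_eq_zero.1 ?_
      have h1 := congrArg (algebraMap A A') (LinearMap.congr_fun hb x)
      rw [LinearMap.smul_apply, smul_eq_mul, map_mul, hφ', Algebra.smul_def, LinearMap.zero_apply, map_zero] at h1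
      rw [LinearMap.smul_apply, smul_eq_mul, ← h1]
      ring
    obtain ⟨w, hw⟩ := (IsLocalization.map_eq_zero_iff P.primeCompl A' b).1
      (hbij.1 (h0.trans (zero_smul A' ψ').symm))
    exact ⟨w, w.2, hw⟩
  obtain ⟨s, hs, hgen⟩ := exists_genAt_of_prime P (H := 𝒯.L ht hd →ₗ[A] A) (φ := φ) hA₁ hA₂
  exact ⟨φ, s, hs, hgen⟩

include ht hd in
/-- The bottom of a formal invertible module is trivial. -/
theorem exists_triv (htm : t ∈ maximalIdeal A)
    (hloc : ∀ (P : Ideal A) [P.IsPrime], IsCurvePrime t P →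
      (2 : ℕ∞) ≤ LocCoh.depth (Localization.AtPrime P) (Localization.AtPrime P) ∧
        RamSam.ModuleTriv (Localization.AtPrime P))
    (hA : RamSam.ModuleTriv A) :
    ∃ ψ : 𝒯.D 0 →ₗ[A] Lvl t 0, ∀ P : Ideal A, P.IsPrime → P ≠ maximalIdeal A → t ∈ P →
      ∃ (m : 𝒯.D 0) (c : A), c ∉ P ∧ ψ m = Ideal.Quotient.mk _ c := by
  classical
  have hJne : Ideal.span {t} ≠ (⊤ : Ideal A) := fun h =>
    (maximalIdeal.isMaximal A).ne_top (top_le_iff.1 (h ▸ (Ideal.span_singleton_le_iff_mem _).2 htm))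
  have hdA : (2 : ℕ∞) ≤ LocCoh.depth A A := le_trans (by norm_num)
    (RamSam.le_depth_of_grFree _ hJne (RamSam.free_gr_span_singleton t ht) (n := 4) hd)
  have hH := 𝒯.genPunct_dual_L ht hd htm hloc
  obtain ⟨g, hg⟩ := hA _ hH
  have hbij := RamSam.bijective_smul_of_isTrivPunct hdA g hg
  let η := LinearEquiv.ofBijective (LinearMap.toSpanSingleton A _ g) hbij
  let σ : 𝒯.L ht hd →ₗ[A] A := η.symm.toLinearMap.comp (Module.Dual.eval A (𝒯.L ht hd))
  have hσ : ∀ x (f : 𝒯.L ht hd →ₗ[A] A), σ x * g f = f x := fun x f => by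
    have := LinearMap.congr_fun (η.apply_symm_apply (Module.Dual.eval A (𝒯.L ht hd) x)) f
    exact this
  let ev : 𝒯.L ht hd →ₗ[A] (𝒯.D 0 →ₗ[A] Lvl t 0) := (𝒯.sys ht hd).eval
  let σ₀ : 𝒯.L ht hd →ₗ[A] Lvl t 0 := (Submodule.mkQ _).comp σ
  have hle : LinearMap.ker ev ≤ LinearMap.ker σ₀ := fun f hf => by
    obtain ⟨g', hg'⟩ := LevelSystem.ker_eval (𝒯.isExact ht hd) f (LinearMap.mem_ker.1 hf)
    rw [LinearMap.mem_ker, ← hg', map_smul]
    simpa using lvl_kill t 0 (σ₀ g')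
  obtain ⟨Sg, hSg⟩ := exists_extend (van_lvl t ht (c := 2) (le_trans (by norm_num) hd) 0) (LinearMap.range ev)
    (𝒯.killed_coker_eval ht hd) (((LinearMap.ker ev).liftQ σ₀ hle).comp ev.quotKerEquivRange.symm.toLinearMap)
  have hSg : ∀ f, Sg (ev f) = σ₀ f := fun f => (hSg ⟨ev f, LinearMap.mem_range_self ev f⟩).trans
    (congrArg ((LinearMap.ker ev).liftQ σ₀ hle)
      (LinearMap.quotKerEquivRange_symm_apply_image ev f (LinearMap.mem_range_self ev f)))
  let a : Lvl t 0 →ₗ[A] ((𝒯.D 0 →ₗ[A] Lvl t 0) →ₗ[A] Lvl t 0) :=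
    { toFun := fun c => (LinearMap.mulLeft A c).comp Sg
      map_add' := fun c c' => LinearMap.ext fun f => add_mul c c' _
      map_smul' := fun r c => LinearMap.ext fun f => smul_mul_assoc r c _ }
  have hdata : ∀ P : Ideal A, P.IsPrime → P ≠ maximalIdeal A → t ∈ P →
      ∃ (φ : 𝒯.D 0 →ₗ[A] Lvl t 0) (d s : A) (m : 𝒯.D 0) (c : A), d ∉ P ∧ s ∉ P ∧ c ∉ P ∧
        (∀ f, ∃ (k : ℕ) (b : A), s ^ k • f = b • φ) ∧ Sg φ = Ideal.Quotient.mk _ d ∧ φ m = Ideal.Quotient.mk _ c := by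
    intro P hP hne htP
    obtain ⟨f₀, s, hs, hf₀, hS0, m, c, hc, hmc⟩ := 𝒯.exists_genAt_L ht hd P hne htP
    obtain ⟨φ, k, hφk, -⟩ := RamSam.exists_genAt_dual hf₀
    refine ⟨ev f₀, σ f₀, s, m, c, fun h => hs (hP.mem_of_pow_mem k ?_), hs, hc, hS0, hSg f₀, hmc⟩
    rw [← hφk, ← hσ f₀ φ]
    exact P.mul_mem_right _ h
  haveI : Module.Finite A ((𝒯.D 0 →ₗ[A] Lvl t 0) →ₗ[A] Lvl t 0) := inferInstance
  have hua : UIso a := by
    intro P hP hne
    by_cases htP : t ∈ P
    · obtain ⟨φ, d, s, m, c, hd', hs, hc, hgen, hSgφ, -⟩ := hdata P hP hne htP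
      refine ⟨fun x hx => ⟨d, hd', ?_⟩, fun y => ?_⟩
      · have h1 : x * Sg φ = 0 := LinearMap.congr_fun hx φ
        rw [hSgφ, mul_comm] at h1
        rw [Algebra.smul_def, Ideal.Quotient.algebraMap_eq]
        exact h1
      · obtain ⟨K, hK⟩ := exists_uniform_pow (M := 𝒯.D 0 →ₗ[A] Lvl t 0) hgen
        refine ⟨s ^ K * d, fun h => (hP.mem_or_mem h).elim (fun h' => hs (hP.mem_of_pow_mem _ h')) hd', s ^ K • y φ,
          LinearMap.ext fun f => ?_⟩
        obtain ⟨b, hb⟩ := hK f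
        show (s ^ K • y φ) * Sg f = (s ^ K * d) • y f
        have h1 : s ^ K • Sg f = b • Sg φ := by rw [← map_smul, hb, map_smul]
        have h2 : s ^ K • y f = b • y φ := by rw [← map_smul, hb, map_smul]
        rw [smul_mul_assoc, ← mul_smul_comm, h1, mul_comm (s ^ K) d, mul_smul, h2, hSgφ]
        simp only [Algebra.smul_def, Ideal.Quotient.algebraMap_eq]
        ring
    · exact ⟨fun x _ => ⟨t, htP, by simpa using lvl_kill t 0 x⟩, fun y => ⟨t, htP, 0, by
        rw [map_zero]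
        exact (LinearMap.ext fun f => by simpa using lvl_kill t 0 (y f)).symm⟩⟩
  obtain ⟨F, hF⟩ := (precomp_bijective (van_lvl t ht (c := 2) (le_trans (by norm_num) hd) 0) hua).2 LinearMap.id
  let evD : 𝒯.D 0 →ₗ[A] ((𝒯.D 0 →ₗ[A] Lvl t 0) →ₗ[A] Lvl t 0) := LinearMap.id.flip
  refine ⟨F.comp evD, fun P hP hne htP => ?_⟩
  obtain ⟨φ, d, s, m, c, hd', hs, hc, hgen, hSgφ, hmc⟩ := hdata P hP hne htP
  obtain ⟨K, hK⟩ := exists_uniform_pow (M := 𝒯.D 0 →ₗ[A] Lvl t 0) hgen
  have hy : (s ^ K * d) • evD m = a (s ^ K • φ m) := LinearMap.ext fun f => by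
    obtain ⟨b, hb⟩ := hK f
    show (s ^ K * d) • f m = (s ^ K • φ m) * Sg f
    have h1 : s ^ K • Sg f = b • Sg φ := by rw [← map_smul, hb, map_smul]
    have h2 : s ^ K • f m = b • φ m := by rw [← LinearMap.smul_apply, hb, LinearMap.smul_apply]
    rw [smul_mul_assoc, ← mul_smul_comm, h1, mul_comm (s ^ K) d, mul_smul, h2, hSgφ]
    simp only [Algebra.smul_def, Ideal.Quotient.algebraMap_eq]
    ring
  obtain ⟨c', hc'⟩ := Ideal.Quotient.mk_surjective (F (evD m))
  refine ⟨m, c', fun hmem => ?_, hc'.symm⟩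
  have h1 : (s ^ K * d) • F (evD m) = s ^ K • φ m := by
    rw [← map_smul, hy]
    exact LinearMap.congr_fun hF _
  rw [← hc', hmc, Algebra.smul_def, Algebra.smul_def, Ideal.Quotient.algebraMap_eq, ← map_mul, ← map_mul,
    Ideal.Quotient.eq] at h1
  have hle : Ideal.span {t ^ (0 + 1)} ≤ P := (Ideal.span_singleton_le_iff_mem P).2 (by simpa using htP)
  have h2 : s ^ K * c ∈ P := (P.sub_mem_iff_right (P.mul_mem_left _ hmem)).1 (hle h1)
  exact (hP.mem_or_mem h2).elim (fun h => hs (hP.mem_of_pow_mem _ h)) hc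

end Tower

end GrothLib.SGA2Para
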