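import Groth.Agent.Lib.SGA2Para.Formal
import Groth.Agent.Lib.SGA2Para.Main
import Groth.Agent.Lib.RamSam.PunctBridge

/-!
# Parafactoriality passes to a hypersurface section
-/

set_option autoImplicit false
set_option linter.style.haveILetI false

universe u

open IsLocalRing

namespace GrothLib.SGA2Para

variable {A : Type u} [CommRing A] [IsLocalRing A] [IsNoetherianRing A] {t : A}

/-- A parafactorial ring has trivial modules free of rank one off the closed point. -/
theorem moduleTriv_of_parafactorial {R : Type u} [CommRing R] [IsLocalRing R] [IsNoetherianRing R]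
    (hd : (2 : ℕ∞) ≤ LocCoh.depth R R) (h : ParaF.IsParafactorialLocalRing R) : RamSam.ModuleTriv R :=
  RamSam.moduleTriv_of_picTrivial hd ((ParaPair.isParafactorialLocalRing_iff R).1 h).2

variable [IsLocalRing (A ⧸ Ideal.span {t})] [IsAdicComplete (Ideal.span {t}) A]

/-- A hypersurface section of depth at least four inherits trivial punctured Picard group. -/
theorem picTrivial_quotient (ht : IsSMulRegular A t) (htm : t ∈ maximalIdeal A)
    (hd : (4 : ℕ∞) ≤ LocCoh.depth (A ⧸ Ideal.span {t}) (A ⧸ Ideal.span {t}))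
    (hloc : ∀ (P : Ideal A) [P.IsPrime], IsCurvePrime t P →
      (2 : ℕ∞) ≤ LocCoh.depth (Localization.AtPrime P) (Localization.AtPrime P) ∧
        RamSam.ModuleTriv (Localization.AtPrime P))
    (hA : RamSam.ModuleTriv A) :
    ParaF.PicTrivial (FEt.puncturedSpec (A ⧸ Ideal.span {t}) : AlgebraicGeometry.Scheme.{u}) := by
  let B := A ⧸ Ideal.span {t}
  let mk : A →+* B := Ideal.Quotient.mk (Ideal.span {t})
  refine RamSam.picTrivial_of B fun M _ _ _ hM => ?_
  letI : Module A M := Module.compHom M mk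
  haveI : IsScalarTower A B M := IsScalarTower.of_algebraMap_smul fun _ _ => rfl
  haveI : Module.Finite A M := Module.Finite.trans B M
  obtain ⟨𝒯, ⟨e⟩⟩ := exists_tower ht htm hd M hM
  obtain ⟨ψ₀, hψ₀⟩ := 𝒯.exists_triv ht hd htm hloc hA
  let q : Lvl t 0 ≃ₗ[A] B := Submodule.quotEquivOfEq _ _ (by rw [Nat.zero_add, pow_one])
  let ψ : M →ₗ[B] B :=
    (q.toLinearMap.comp (ψ₀.comp e.toLinearMap)).extendScalarsOfSurjective Ideal.Quotient.mk_surjective
  refine ⟨ψ, fun P hP hne => ?_⟩
  obtain ⟨m₀, s, hs, hm⟩ := hM P hP hne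
  refine ⟨m₀, s, hs, hm, fun hmem => ?_⟩
  obtain ⟨m, c, hc, hmc⟩ := hψ₀ (P.comap mk) inferInstance (RamSam.comap_ne_maximal _ hne) (by
    rw [Ideal.mem_comap, show mk t = 0 from Ideal.Quotient.eq_zero_iff_mem.2 (Ideal.mem_span_singleton_self t)]
    exact zero_mem P)
  obtain ⟨k, b, hb⟩ := hm.1 (e.symm m)
  have hval : ψ (e.symm m) = mk c := by
    show q (ψ₀ (e (e.symm m))) = _
    rw [e.apply_symm_apply, hmc]
    rfl
  have h1 : s ^ k * mk c = b * ψ m₀ := by
    rw [← hval, ← smul_eq_mul, ← map_smul, hb, map_smul, smul_eq_mul]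
  have h2 : s ^ k * mk c ∈ P := h1 ▸ P.mul_mem_left b hmem
  exact (hP.mem_or_mem h2).elim (fun h => hs (hP.mem_of_pow_mem k h)) hc

/-- A hypersurface section of depth at least four of a parafactorial ring is parafactorial. -/
theorem isParafactorial_quotient (ht : IsSMulRegular A t) (htm : t ∈ maximalIdeal A)
    (hd : (4 : ℕ∞) ≤ LocCoh.depth (A ⧸ Ideal.span {t}) (A ⧸ Ideal.span {t}))
    (hloc : ∀ (P : Ideal A) [P.IsPrime], IsCurvePrime t P →
      (2 : ℕ∞) ≤ LocCoh.depth (Localization.AtPrime P) (Localization.AtPrime P) ∧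
        ParaF.IsParafactorialLocalRing (Localization.AtPrime P))
    (hA : ParaF.IsParafactorialLocalRing A) : ParaF.IsParafactorialLocalRing (A ⧸ Ideal.span {t}) := by
  have hJne : Ideal.span {t} ≠ (⊤ : Ideal A) := fun h =>
    (maximalIdeal.isMaximal A).ne_top (top_le_iff.1 (h ▸ (Ideal.span_singleton_le_iff_mem _).2 htm))
  have hdA : (2 : ℕ∞) ≤ LocCoh.depth A A := le_trans (by norm_num)
    (RamSam.le_depth_of_grFree _ hJne (RamSam.free_gr_span_singleton t ht) (n := 4) hd)
  exact (ParaPair.isParafactorialLocalRing_iff _).2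
    ⟨RamSam.bijective_res_of_depth_two _ (le_trans (by norm_num) hd),
      picTrivial_quotient ht htm hd
        (fun P _ hP => ⟨(hloc P hP).1, moduleTriv_of_parafactorial (hloc P hP).1 (hloc P hP).2⟩)
        (moduleTriv_of_parafactorial hdA hA)⟩

end GrothLib.SGA2Para
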