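import Groth.Agent.Lib.SGA2Para.UIso
import Mathlib.Algebra.Homology.DerivedCategory.Ext.Linear
import Mathlib.Data.Matrix.Mul

/-!
# The obstruction to lifting functionals along the powers of a regular element

For a module `D` over `A/(t)^(R+1)` free of rank one off the closed point, the functionals to `A/(t)` which
lift to `A/(t)^(R+1)` have colength bounded by the length of an `Ext¹`, independently of `R`.
-/

set_option autoImplicit false
set_option linter.style.haveILetI false

universe u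

open IsLocalRing CategoryTheory CategoryTheory.Abelian

namespace GrothLib.SGA2Para

variable {A : Type u} [CommRing A] [IsLocalRing A] [IsNoetherianRing A] (t : A)

/-- The ring `A/(t ^ (n + 1))`. -/
abbrev Lvl (n : ℕ) : Type u := A ⧸ Ideal.span {t ^ (n + 1)}

/-- Free of rank one over `A/(t)^(R+1)` at the primes other than the closed point containing `t`. -/
def GenLevel (R : ℕ) (D : Type u) [AddCommGroup D] [Module A D] : Prop :=
  ∀ P : Ideal A, P.IsPrime → P ≠ maximalIdeal A → t ∈ P →
    ∃ (m : D) (s : A), s ∉ P ∧ (∀ x : D, ∃ (k : ℕ) (b : A), s ^ k • x = b • m) ∧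
      ∀ b : A, b • m = 0 → ∃ k : ℕ, s ^ k * b ∈ Ideal.span {t} ^ (R + 1)

section

variable [IsLocalRing (A ⧸ Ideal.span {t})] {r : ℕ} {D : Type u} [AddCommGroup D] [Module A D]
  (g : (Fin r → A) →ₗ[A] D)

/-- Vectors killing the relations modulo `t ^ (n + 1)`. -/
def relKill (n : ℕ) : Submodule A (Fin r → A) where
  carrier := {v | ∀ z, g z = 0 → z ⬝ᵥ v ∈ Ideal.span {t} ^ (n + 1)}
  add_mem' := fun ha hb z hz => by rw [dotProduct_add]; exact add_mem (ha z hz) (hb z hz)
  zero_mem' := fun z _ => by rw [dotProduct_zero]; exact zero_mem _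
  smul_mem' := fun a v hv z hz => by
    rw [dotProduct_smul, smul_eq_mul]
    exact Ideal.mul_mem_left _ a (hv z hz)

omit [IsLocalRing A] [IsNoetherianRing A] [IsLocalRing (A ⧸ Ideal.span {t})] in
theorem relKill_antitone {m n : ℕ} (h : m ≤ n) : relKill t g n ≤ relKill t g m := fun _ hv z hz =>
  Ideal.pow_le_pow_right (Nat.add_le_add_right h 1) (hv z hz)

omit [IsLocalRing A] [IsNoetherianRing A] [IsLocalRing (A ⧸ Ideal.span {t})] in
theorem mem_pow_iff {a : A} (n : ℕ) : a ∈ Ideal.span {t} ^ n ↔ ∃ b, t ^ n * b = a := by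
  rw [Ideal.span_singleton_pow, Ideal.mem_span_singleton']
  exact exists_congr fun b => by rw [mul_comm]

omit [IsLocalRing A] [IsNoetherianRing A] [IsLocalRing (A ⧸ Ideal.span {t})] in
theorem mem_of_pow_mul {a : A} (ht : IsSMulRegular A t) {m n : ℕ} (h : t ^ m * a ∈ Ideal.span {t} ^ (m + n)) :
    a ∈ Ideal.span {t} ^ n := by
  obtain ⟨b, hb⟩ := (mem_pow_iff t (m + n)).1 h
  refine (mem_pow_iff t n).2 ⟨b, ?_⟩
  refine (ht.pow m) ?_
  show t ^ m • (t ^ n * b) = t ^ m • a
  rw [smul_eq_mul, smul_eq_mul, ← mul_assoc, ← pow_add]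
  exact hb

theorem eq_zero_of_killed_quotient (hV : Van (S := A ⧸ Ideal.span {t}) (A ⧸ Ideal.span {t}) 1) (b : A)
    (h : ∀ P : Ideal A, P.IsPrime → P ≠ maximalIdeal A → t ∈ P → ∃ s ∉ P, s * b ∈ Ideal.span {t}) :
    b ∈ Ideal.span {t} := by
  have hk : Killed (A ⧸ Ideal.span {t})
      (Submodule.span (A ⧸ Ideal.span {t}) {Ideal.Quotient.mk (Ideal.span {t}) b}) := by
    intro P hP hne x
    obtain ⟨s, hs, hsb⟩ := h (P.comap (Ideal.Quotient.mk _)) inferInstance (RamSam.comap_ne_maximal _ hne)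
      (by rw [Ideal.mem_comap, Ideal.Quotient.eq_zero_iff_mem.2 (Ideal.mem_span_singleton_self t)]; exact zero_mem P)
    obtain ⟨c, hc⟩ := Submodule.mem_span_singleton.1 x.2
    refine ⟨Ideal.Quotient.mk _ s, hs, Subtype.ext ?_⟩
    show Ideal.Quotient.mk _ s • x.1 = 0
    rw [← hc, smul_comm, smul_eq_mul (Ideal.Quotient.mk _ s), ← map_mul, Ideal.Quotient.eq_zero_iff_mem.2 hsb,
      smul_zero]
  exact Ideal.Quotient.eq_zero_iff_mem.1 (LinearMap.congr_fun
    (eq_zero_of_killed hV hk (Submodule.subtype _)) ⟨_, Submodule.mem_span_singleton_self _⟩)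

/-- The class of a pairing with a vector is independent of the lift of a relation. -/
theorem dot_class_eq_zero {R n : ℕ} (hR : n < R) (ht : IsSMulRegular A t)
    (hV : Van (S := A ⧸ Ideal.span {t}) (A ⧸ Ideal.span {t}) 1) (hg : Function.Surjective g)
    (hD : GenLevel t R D) {v : Fin r → A} (hv : v ∈ relKill t g n) {a : Fin r → A} (ha : g a = 0)
    (ha' : ∀ i, a i ∈ Ideal.span {t}) {b : A} (hb : a ⬝ᵥ v = t ^ (n + 1) * b) : b ∈ Ideal.span {t} := by
  refine eq_zero_of_killed_quotient t hV b fun P hP hne htP => ?_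
  choose a' ha'' using fun i => Ideal.mem_span_singleton'.1 (ha' i)
  have haeq : a = t • a' := funext fun i => by rw [Pi.smul_apply, smul_eq_mul, mul_comm, ha'']
  obtain ⟨m, s, hs, hgen, hkill⟩ := hD P hP hne htP
  obtain ⟨e, he⟩ := hg m
  obtain ⟨k, c, hc⟩ := hgen (g a')
  obtain ⟨l, hl⟩ := hkill (t * c) (by
    rw [mul_smul, ← hc, smul_comm, ← map_smul, ← haeq, ha, smul_zero])
  have hl' : s ^ l * c ∈ Ideal.span {t} ^ R := mem_of_pow_mul t ht (m := 1) (by
    rw [pow_one, add_comm 1 R, show t * (s ^ l * c) = s ^ l * (t * c) by ring]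
    exact hl)
  have hz : g (s ^ (l + k) • a' - (s ^ l * c) • e) = 0 := by
    rw [map_sub, map_smul, map_smul, he, pow_add, mul_smul, hc, mul_smul, sub_self]
  have h1 := hv _ hz
  rw [sub_dotProduct, smul_dotProduct, smul_dotProduct, smul_eq_mul, smul_eq_mul] at h1
  have h2 : s ^ (l + k) * (a' ⬝ᵥ v) ∈ Ideal.span {t} ^ (n + 1) := by
    have := add_mem h1 (Ideal.mul_mem_right (e ⬝ᵥ v) _ (Ideal.pow_le_pow_right hR hl'))
    rwa [sub_add_cancel] at this
  refine ⟨s ^ (l + k), fun h => hs (hP.mem_of_pow_mem _ h), ?_⟩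
  rw [← pow_one (Ideal.span {t})]
  refine mem_of_pow_mul t ht (m := n + 1) ?_
  rw [show t ^ (n + 1) * (s ^ (l + k) * b) = t * (s ^ (l + k) * (a' ⬝ᵥ v)) by
    rw [haeq, smul_dotProduct, smul_eq_mul] at hb
    linear_combination -(s ^ (l + k)) * hb, add_comm (n + 1) 1, pow_add, pow_one]
  exact Ideal.mul_mem_mul (Ideal.mem_span_singleton_self t) h2

/-- Length of the functionals which do not lift, against an `Ext¹`. -/
theorem length_map_le (ht : IsSMulRegular A t) (hV : Van (S := A ⧸ Ideal.span {t}) (A ⧸ Ideal.span {t}) 1)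
    (hg : Function.Surjective g) {R : ℕ} (hD : GenLevel t R D) :
    Module.length A (Submodule.map (relKill t g R ⊔ Ideal.span {t} • ⊤).mkQ (relKill t g 0)) ≤
      Module.length (A ⧸ Ideal.span {t}) (Ext
        (ModuleCat.of (A ⧸ Ideal.span {t}) (D ⧸ Ideal.span {t} • (⊤ : Submodule A D)))
        (ModuleCat.of (A ⧸ Ideal.span {t}) (A ⧸ Ideal.span {t})) 1) := by
  classical
  set J : Ideal A := Ideal.span {t} with hJdef
  let Q := D ⧸ J • (⊤ : Submodule A D)
  let C := Ext (ModuleCat.of (A ⧸ J) Q) (ModuleCat.of (A ⧸ J) (A ⧸ J)) 1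
  letI : Module A C := Module.compHom C (Ideal.Quotient.mk J)
  haveI : IsScalarTower A (A ⧸ J) C := ⟨fun a b x => by
    show (a • b) • x = Ideal.Quotient.mk J a • (b • x)
    rw [smul_smul]
    rfl⟩
  -- the presentation modulo `t`
  let π : (Fin r → A ⧸ J) →ₗ[A ⧸ J] Q :=
    Fintype.linearCombination (A ⧸ J) fun i => Submodule.Quotient.mk (g (Pi.single i 1))
  have hπ : ∀ a : Fin r → A, π (fun i => Ideal.Quotient.mk J (a i)) = Submodule.Quotient.mk (g a) := fun a => by
    conv_rhs => rw [pi_eq_sum_univ' a, map_sum]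
    simp only [π, Fintype.linearCombination_apply, map_smul]
    exact (map_sum (Submodule.mkQ _) _ _).symm
  let K := LinearMap.ker π
  have hsurj : Function.Surjective π := fun q => by
    obtain ⟨x, rfl⟩ := Submodule.Quotient.mk_surjective _ q
    obtain ⟨a, rfl⟩ := hg x
    exact ⟨_, hπ a⟩
  have hlift : ∀ z : K, ∃ a : Fin r → A, g a = 0 ∧ ∀ i, Ideal.Quotient.mk J (a i) = z.1 i := by
    intro z
    choose a ha using fun i => Ideal.Quotient.mk_surjective (z.1 i)
    have h0 : g a ∈ J • (⊤ : Submodule A D) := by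
      rw [← Submodule.Quotient.mk_eq_zero, ← hπ, show (fun i => Ideal.Quotient.mk J (a i)) = z.1 from funext ha]
      exact z.2
    obtain ⟨y, -, hy⟩ := (Submodule.ideal_span_singleton_smul t (⊤ : Submodule A D)).le h0
    obtain ⟨w, rfl⟩ := hg y
    refine ⟨a - t • w, by rw [map_sub, map_smul]; exact sub_eq_zero.2 hy.symm, fun i => ?_⟩
    rw [← ha i, Ideal.Quotient.eq, Pi.sub_apply, Pi.smul_apply, sub_sub_cancel_left]
    exact neg_mem (Ideal.mem_span_singleton'.2 ⟨w i, mul_comm _ _⟩)
  choose lift hlift₁ hlift₂ using hlift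
  have hsc := RamSam.shortExact_mk K.subtype π (Submodule.injective_subtype _) hsurj
    (LinearMap.exact_subtype_ker_map π)
  -- the obstruction
  have hval : ∀ (n : ℕ) (v : relKill t g n) (z : K), ∃ b, t ^ (n + 1) * b = lift z ⬝ᵥ v.1 := fun n v z =>
    (mem_pow_iff t (n + 1)).1 (v.2 _ (hlift₁ z))
  choose val hval using hval
  have hkey : ∀ (n : ℕ), n < R → ∀ (v : relKill t g n) (z : K) (a : Fin r → A) (b : A), g a = 0 →
      (∀ i, Ideal.Quotient.mk J (a i) = z.1 i) → a ⬝ᵥ v.1 = t ^ (n + 1) * b →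
      Ideal.Quotient.mk J (val n v z) = Ideal.Quotient.mk J b := by
    intro n hn v z a b hga ha hb
    rw [Ideal.Quotient.eq]
    refine dot_class_eq_zero t g hn ht hV hg hD v.2 (a := lift z - a) (by rw [map_sub, hlift₁, hga, sub_zero])
      (fun i => Ideal.Quotient.eq.1 ((hlift₂ z i).trans (ha i).symm)) ?_
    rw [sub_dotProduct, hb, ← hval n v z, mul_sub]
  let h : ∀ n, n < R → relKill t g n → (K →ₗ[A ⧸ J] A ⧸ J) := fun n hn v =>
    { toFun := fun z => Ideal.Quotient.mk J (val n v z)
      map_add' := fun z z' => by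
        rw [← map_add]
        refine hkey n hn v _ (lift z + lift z') _ (by rw [map_add, hlift₁, hlift₁, add_zero])
          (fun i => by rw [Pi.add_apply, map_add, hlift₂, hlift₂]; rfl) ?_
        rw [add_dotProduct, mul_add, hval, hval]
      map_smul' := fun c z => by
        obtain ⟨c, rfl⟩ := Ideal.Quotient.mk_surjective c
        rw [RingHom.id_apply, smul_eq_mul, ← map_mul]
        refine hkey n hn v _ (c • lift z) _ (by rw [map_smul, hlift₁, smul_zero])
          (fun i => by rw [Pi.smul_apply, smul_eq_mul, map_mul, hlift₂]; rfl) ?_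
        rw [smul_dotProduct, smul_eq_mul, mul_left_comm, hval] }
  have hadd : ∀ n (hn : n < R) (v w : relKill t g n), h n hn (v + w) = h n hn v + h n hn w :=
    fun n hn v w => LinearMap.ext fun z => by
      show Ideal.Quotient.mk J _ = Ideal.Quotient.mk J _ + Ideal.Quotient.mk J _
      rw [← map_add]
      refine hkey n hn _ z (lift z) _ (hlift₁ z) (hlift₂ z) ?_
      rw [mul_add, hval, hval]
      exact dotProduct_add _ _ _
  have hsmul : ∀ n (hn : n < R) (c : A) (v : relKill t g n), h n hn (c • v) = Ideal.Quotient.mk J c • h n hn v :=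
    fun n hn c v => LinearMap.ext fun z => by
      show Ideal.Quotient.mk J _ = Ideal.Quotient.mk J c * Ideal.Quotient.mk J _
      rw [← map_mul]
      refine hkey n hn _ z (lift z) _ (hlift₁ z) (hlift₂ z) ?_
      rw [mul_left_comm, hval]
      exact dotProduct_smul _ _ _
  let ε : (K →ₗ[A ⧸ J] A ⧸ J) → C := fun f => hsc.extClass.comp (Ext.mk₀ (ModuleCat.ofHom f)) (add_zero 1)
  have hεadd : ∀ f f', ε (f + f') = ε f + ε f' := fun f f' =>
    (congrArg (fun e => hsc.extClass.comp e (add_zero 1)) (Ext.mk₀_add (X := ModuleCat.of (A ⧸ J) K)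
      (ModuleCat.ofHom f) (ModuleCat.ofHom f'))).trans (Ext.comp_add _ _ _ _)
  have hεsmul : ∀ (c : A ⧸ J) f, ε (c • f) = c • ε f := fun c f =>
    (congrArg (fun e => hsc.extClass.comp e (add_zero 1)) (Ext.mk₀_smul (X := ModuleCat.of (A ⧸ J) K) c
      (ModuleCat.ofHom f))).trans (Ext.comp_smul _ _ _ _)
  let δ : ∀ n, n < R → (relKill t g n →ₗ[A] C) := fun n hn =>
    { toFun := fun v => ε (h n hn v)
      map_add' := fun v w => (congrArg ε (hadd n hn v w)).trans (hεadd _ _)
      map_smul' := fun c v => (congrArg ε (hsmul n hn c v)).trans (hεsmul _ _) }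
  let T : ℕ → Submodule A (Fin r → A) := fun n => relKill t g n ⊔ J • ⊤
  have hJtop : ∀ v : Fin r → A, (∀ i, v i ∈ J) → v ∈ J • (⊤ : Submodule A (Fin r → A)) := fun v hv => by
    rw [pi_eq_sum_univ' v]
    exact Submodule.sum_mem _ fun i _ => Submodule.smul_mem_smul (hv i) Submodule.mem_top
  let gn : ∀ n, relKill t g n →ₗ[A] (Fin r → A) ⧸ T (n + 1) := fun n =>
    (T (n + 1)).mkQ.comp (relKill t g n).subtype
  have hker : ∀ n (hn : n < R), LinearMap.ker (δ n hn) ≤ LinearMap.ker (gn n) := by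
    intro n hn v hv
    obtain ⟨x₂, hx₂⟩ := Ext.contravariant_sequence_exact₁ hsc (ModuleCat.of (A ⧸ J) (A ⧸ J))
      (Ext.mk₀ (ModuleCat.ofHom (h n hn v))) (n₁ := 1) rfl (LinearMap.mem_ker.1 hv)
    obtain ⟨F, rfl⟩ : ∃ F : ModuleCat.of (A ⧸ J) (Fin r → A ⧸ J) ⟶ ModuleCat.of (A ⧸ J) (A ⧸ J), Ext.mk₀ F = x₂ := ⟨Ext.homEquiv₀ x₂, Ext.mk₀_homEquiv₀_apply x₂⟩
    have hF := (Ext.mk₀_bijective _ _).1 ((Ext.mk₀_comp_mk₀ (ModuleCat.ofHom K.subtype) F).symm.trans hx₂)
    choose w hw using fun i => Ideal.Quotient.mk_surjective (F.hom (Pi.single i 1))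
    have hmem : v.1 - t ^ (n + 1) • w ∈ relKill t g (n + 1) := by
      intro z hz
      have hzK : (fun i => Ideal.Quotient.mk J (z i)) ∈ K := by
        rw [LinearMap.mem_ker, hπ, hz]
        rfl
      have h1 : F.hom (fun i => Ideal.Quotient.mk J (z i)) = Ideal.Quotient.mk J (val n v ⟨_, hzK⟩) :=
        congrArg (fun f : ModuleCat.of (A ⧸ J) K ⟶ ModuleCat.of (A ⧸ J) (A ⧸ J) => f.hom ⟨_, hzK⟩) hF
      have h2 : F.hom (fun i => Ideal.Quotient.mk J (z i)) = Ideal.Quotient.mk J (z ⬝ᵥ w) := by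
        conv_lhs => rw [pi_eq_sum_univ' (fun i => Ideal.Quotient.mk J (z i)), map_sum]
        simp only [dotProduct, map_sum, map_smul, smul_eq_mul, map_mul, hw]
      obtain ⟨b, hb⟩ := (mem_pow_iff t (n + 1)).1 (v.2 z hz)
      have h3 := hkey n hn v ⟨_, hzK⟩ z b hz (fun _ => rfl) hb.symm
      have h4 : b - z ⬝ᵥ w ∈ J := Ideal.Quotient.eq.1 (h3.symm.trans (h1.symm.trans h2))
      rw [dotProduct_sub, dotProduct_smul, smul_eq_mul, ← hb, ← mul_sub, pow_succ]
      exact Ideal.mul_mem_mul (Ideal.pow_mem_pow (Ideal.mem_span_singleton_self t) (n + 1)) h4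
    refine LinearMap.mem_ker.2 ((Submodule.Quotient.mk_eq_zero _).2 ?_)
    rw [show (relKill t g n).subtype v = (v.1 - t ^ (n + 1) • w) + t ^ (n + 1) • w from (sub_add_cancel _ _).symm]
    exact add_mem (Submodule.mem_sup_left hmem) (Submodule.mem_sup_right (hJtop _ fun i =>
      Ideal.mul_mem_right _ _ (Ideal.pow_mem_of_mem _ (Ideal.mem_span_singleton_self t) _ n.succ_pos)))
  let a : ℕ → ℕ∞ := fun n => Module.length A (Submodule.map (T n).mkQ (relKill t g 0))
  have hstep : ∀ n, a (n + 1) ≤ a n + Module.length A (LinearMap.range (gn n)) := by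
    intro n
    have hle : T (n + 1) ≤ T n := sup_le_sup_right (relKill_antitone t g n.le_succ) _
    let q : Submodule.map (T (n + 1)).mkQ (relKill t g 0) →ₗ[A] Submodule.map (T n).mkQ (relKill t g 0) :=
      ((Submodule.factor hle).comp (Submodule.subtype _)).codRestrict _ (by
        rintro ⟨x, v, hv, rfl⟩
        exact ⟨v, hv, rfl⟩)
    let i : LinearMap.range (gn n) →ₗ[A] Submodule.map (T (n + 1)).mkQ (relKill t g 0) :=
      Submodule.inclusion (by rintro _ ⟨v, rfl⟩; exact ⟨v.1, relKill_antitone t g n.zero_le v.2, rfl⟩)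
    have hq : Function.Surjective q := by
      rintro ⟨x, v, hv, rfl⟩
      exact ⟨⟨_, v, hv, rfl⟩, rfl⟩
    have hex : Function.Exact i q := by
      rintro ⟨x, v, hv, rfl⟩
      constructor
      · intro hx
        have hx' : v ∈ T n := (Submodule.Quotient.mk_eq_zero _).1 (congrArg Subtype.val hx)
        obtain ⟨v', hv', j, hj, rfl⟩ := Submodule.mem_sup.1 hx'
        refine ⟨⟨_, ⟨⟨v', hv'⟩, rfl⟩⟩, Subtype.ext ?_⟩
        show (T (n + 1)).mkQ v' = (T (n + 1)).mkQ (v' + j)
        rw [map_add, show (T (n + 1)).mkQ j = 0 from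
          (Submodule.Quotient.mk_eq_zero _).2 (Submodule.mem_sup_right hj), add_zero]
      · rintro ⟨⟨y, w, rfl⟩, hy⟩
        refine Subtype.ext ?_
        show Submodule.factor hle ((T (n + 1)).mkQ v) = 0
        rw [← show (gn n w) = (T (n + 1)).mkQ v from congrArg Subtype.val hy]
        exact (Submodule.Quotient.mk_eq_zero _).2 (Submodule.mem_sup_left w.2)
    show Module.length A _ ≤ Module.length A _ + _
    rw [Module.length_eq_add_of_exact i q (Submodule.inclusion_injective _) hq hex, add_comm]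
  have hbound : ∀ n (hn : n < R), a (n + 1) ≤ Module.length A (LinearMap.range (δ n hn)) := by
    have hrange : ∀ n (hn : n < R) (N : Submodule A C), N ≤ LinearMap.range (δ n hn) →
        (∀ v, δ n hn v ∈ N → gn n v = 0) → Module.length A (LinearMap.range (gn n)) + Module.length A N ≤
          Module.length A (LinearMap.range (δ n hn)) := by
      intro n hn N hN hkill
      let gb : LinearMap.range (δ n hn) →ₗ[A] LinearMap.range (gn n) :=
        ((LinearMap.ker (δ n hn)).liftQ (gn n).rangeRestrict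
          (fun v hv => Subtype.ext (LinearMap.mem_ker.1 (hker n hn hv)))).comp
          (δ n hn).quotKerEquivRange.symm.toLinearMap
      have hgb : ∀ v, gb ⟨δ n hn v, v, rfl⟩ = (gn n).rangeRestrict v := fun v => by
        refine (congrArg ((LinearMap.ker (δ n hn)).liftQ (gn n).rangeRestrict
          (fun w hw => Subtype.ext (LinearMap.mem_ker.1 (hker n hn hw))))
          (LinearMap.quotKerEquivRange_symm_apply_image (δ n hn) v ⟨v, rfl⟩)).trans ?_
        rfl
      have hs : Function.Surjective gb := fun y => by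
        obtain ⟨v, rfl⟩ := (gn n).surjective_rangeRestrict y
        exact ⟨_, hgb v⟩
      rw [Module.length_eq_add_of_exact (LinearMap.ker gb).subtype gb (Submodule.injective_subtype _) hs
        (LinearMap.exact_subtype_ker_map gb), add_comm (Module.length A (LinearMap.ker gb))]
      refine add_le_add le_rfl ?_
      let i : N →ₗ[A] LinearMap.ker gb :=
        (Submodule.inclusion hN).codRestrict _ fun x => by
          obtain ⟨v, hv⟩ := hN x.2
          rw [LinearMap.mem_ker, show Submodule.inclusion hN x = ⟨δ n hn v, v, rfl⟩ from Subtype.ext hv.symm, hgb]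
          exact Subtype.ext (hkill v (hv.symm ▸ x.2))
      exact Module.length_le_of_injective i fun x y hxy =>
        Submodule.inclusion_injective hN (congrArg Subtype.val hxy)
    intro n
    induction n with
    | zero =>
      intro hn
      refine (hstep 0).trans ?_
      have h0 : a 0 = 0 := by
        haveI : Subsingleton (Submodule.map (T 0).mkQ (relKill t g 0)) := subsingleton_of_forall_eq 0 fun x => by
          obtain ⟨v, hv, hx⟩ := x.2
          exact Subtype.ext (hx ▸ (Submodule.Quotient.mk_eq_zero _).2 (Submodule.mem_sup_left hv))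
        exact Module.length_eq_zero
      rw [h0, zero_add]
      refine le_trans (le_add_right le_rfl) (hrange 0 hn ⊥ bot_le fun v hv => ?_)
      exact LinearMap.mem_ker.1 (hker 0 hn (LinearMap.mem_ker.2 ((Submodule.mem_bot A).1 hv)))
    | succ n ih =>
      intro hn
      have hn' : n < R := Nat.lt_of_succ_lt hn
      refine (hstep (n + 1)).trans ((add_le_add (ih hn') le_rfl).trans ?_)
      rw [add_comm]
      have htv : ∀ v : relKill t g n, t • v.1 ∈ relKill t g (n + 1) := fun v z hz => by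
        rw [dotProduct_smul, smul_eq_mul, pow_succ' J (n + 1)]
        exact Ideal.mul_mem_mul (Ideal.mem_span_singleton_self t) (v.2 z hz)
      have hδt : ∀ v : relKill t g n, δ (n + 1) hn ⟨_, htv v⟩ = δ n hn' v := fun v => by
        refine congrArg ε (LinearMap.ext fun z => ?_)
        refine hkey (n + 1) hn ⟨_, htv v⟩ z (lift z) _ (hlift₁ z) (hlift₂ z) ?_
        rw [dotProduct_smul, smul_eq_mul, ← hval n v z, pow_succ' t (n + 1), mul_assoc]
      refine hrange (n + 1) hn _ (fun x hx => ?_) (fun v hv => ?_)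
      · obtain ⟨v, rfl⟩ := hx
        exact ⟨_, hδt v⟩
      · obtain ⟨w, hw⟩ := hv
        have h1 : v - ⟨_, htv w⟩ ∈ LinearMap.ker (δ (n + 1) hn) := by
          rw [LinearMap.mem_ker, map_sub, hδt, hw, sub_self]
        have h2 : gn (n + 1) (v - ⟨_, htv w⟩) = 0 := hker (n + 1) hn h1
        rw [map_sub, sub_eq_zero] at h2
        rw [h2]
        exact (Submodule.Quotient.mk_eq_zero _).2 (Submodule.mem_sup_right
          (Submodule.smul_mem_smul (Ideal.mem_span_singleton_self t) Submodule.mem_top))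
  show a R ≤ _
  rcases R with - | n
  · haveI : Subsingleton (Submodule.map (T 0).mkQ (relKill t g 0)) := subsingleton_of_forall_eq 0 fun x => by
      obtain ⟨v, hv, hx⟩ := x.2
      exact Subtype.ext (hx ▸ (Submodule.Quotient.mk_eq_zero _).2 (Submodule.mem_sup_left hv))
    exact Module.length_eq_zero.le.trans zero_le
  · refine (hbound n n.lt_succ_self).trans ((Module.length_le_of_injective _
      (Submodule.injective_subtype _)).trans ?_)
    exact (Module.length_eq_of_surjective (M := C)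
      (Ideal.Quotient.mk_surjective : Function.Surjective (algebraMap A (A ⧸ J)))).le

/-- The functionals to `A/(t)` which lift to `A/(t)^(R+1)` have colength bounded by an `Ext¹`. -/
theorem length_coker_le (ht : IsSMulRegular A t) (hV : Van (S := A ⧸ Ideal.span {t}) (A ⧸ Ideal.span {t}) 1)
    (hg : Function.Surjective g) {R : ℕ} (hD : GenLevel t R D)
    (q : Lvl t R →ₗ[A] Lvl t 0)
    (hq : ∀ a, q (Ideal.Quotient.mk _ a) = Ideal.Quotient.mk _ a) :
    Module.length A ((D →ₗ[A] Lvl t 0) ⧸ LinearMap.range (LinearMap.compRight A q : (D →ₗ[A] _) →ₗ[A] (D →ₗ[A] _))) ≤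
      Module.length (A ⧸ Ideal.span {t}) (Ext
        (ModuleCat.of (A ⧸ Ideal.span {t}) (D ⧸ Ideal.span {t} • (⊤ : Submodule A D)))
        (ModuleCat.of (A ⧸ Ideal.span {t}) (A ⧸ Ideal.span {t})) 1) := by
  classical
  refine le_trans ?_ (length_map_le t g ht hV hg hD)
  have hex : ∀ n, ∀ v : relKill t g n, ∃ ψ : D →ₗ[A] Lvl t n,
      ∀ a, ψ (g a) = Ideal.Quotient.mk _ (a ⬝ᵥ v.1) := fun n v => by
    let f : (Fin r → A) →ₗ[A] Lvl t n :=
      { toFun := fun a => Ideal.Quotient.mk _ (a ⬝ᵥ v.1)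
        map_add' := fun a b => by rw [add_dotProduct, map_add]
        map_smul' := fun c a => by
          rw [smul_dotProduct, smul_eq_mul, map_mul]
          rfl }
    refine ⟨((LinearMap.ker g).liftQ f fun z hz => Ideal.Quotient.eq_zero_iff_mem.2 (Ideal.span_singleton_pow t (n + 1) ▸ v.2 z hz)).comp
      (g.quotKerEquivOfSurjective hg).symm.toLinearMap, fun a => ?_⟩
    rw [LinearMap.comp_apply, LinearEquiv.coe_coe,
      show (g.quotKerEquivOfSurjective hg).symm (g a) = Submodule.Quotient.mk a from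
      (LinearEquiv.symm_apply_eq _).2 rfl]
    rfl
  choose Ψ hΨ using hex
  let I := LinearMap.range (LinearMap.compRight A q : (D →ₗ[A] _) →ₗ[A] (D →ₗ[A] _))
  let φ : relKill t g 0 →ₗ[A] (D →ₗ[A] Lvl t 0) ⧸ I :=
    { toFun := fun v => Submodule.Quotient.mk (Ψ 0 v)
      map_add' := fun v w => by
        rw [← Submodule.Quotient.mk_add]
        refine congrArg _ (LinearMap.ext fun x => ?_)
        obtain ⟨a, rfl⟩ := hg x
        rw [LinearMap.add_apply, hΨ, hΨ, hΨ, ← map_add, Submodule.coe_add, dotProduct_add]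
      map_smul' := fun c v => by
        rw [RingHom.id_apply, ← Submodule.Quotient.mk_smul]
        refine congrArg _ (LinearMap.ext fun x => ?_)
        obtain ⟨a, rfl⟩ := hg x
        rw [LinearMap.smul_apply, hΨ, hΨ, Submodule.coe_smul, dotProduct_smul, smul_eq_mul, map_mul]
        rfl }
  have hφ : Function.Surjective φ := by
    intro y
    obtain ⟨ψ, rfl⟩ := Submodule.Quotient.mk_surjective _ y
    choose v hv using fun i => Ideal.Quotient.mk_surjective (ψ (g (Pi.single i 1)))
    have hval : ∀ a : Fin r → A, ψ (g a) = Ideal.Quotient.mk _ (a ⬝ᵥ v) := fun a => by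
      conv_lhs => rw [pi_eq_sum_univ' a, map_sum, map_sum]
      simp only [dotProduct, map_sum, map_smul, ← hv, map_mul]
      rfl
    refine ⟨⟨v, fun z hz => (Ideal.span_singleton_pow t (0 + 1)).symm ▸ Ideal.Quotient.eq_zero_iff_mem.1 (by rw [← hval, hz, map_zero])⟩, ?_⟩
    refine congrArg _ (LinearMap.ext fun x => ?_)
    obtain ⟨a, rfl⟩ := hg x
    rw [hΨ, hval]
  let m := (relKill t g R ⊔ Ideal.span {t} • ⊤).mkQ.comp (relKill t g 0).subtype
  have hle : LinearMap.ker m ≤ LinearMap.ker φ := by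
    intro v hv
    obtain ⟨v', hv', j, hj, hsum⟩ := Submodule.mem_sup.1 ((Submodule.Quotient.mk_eq_zero _).1 (LinearMap.mem_ker.1 hv))
    refine LinearMap.mem_ker.2 ((Submodule.Quotient.mk_eq_zero _).2 ⟨Ψ R ⟨v', hv'⟩, LinearMap.ext fun x => ?_⟩)
    obtain ⟨a, rfl⟩ := hg x
    show q (Ψ R ⟨v', hv'⟩ (g a)) = Ψ 0 v (g a)
    rw [hΨ, hΨ, hq, Ideal.Quotient.eq]
    show a ⬝ᵥ v' - a ⬝ᵥ v.1 ∈ _
    rw [show v.1 = v' + j from hsum.symm, dotProduct_add, sub_add_cancel_left, zero_add, pow_one]
    refine neg_mem ?_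
    refine Submodule.smul_induction_on hj (fun c hc w _ => ?_) fun w w' hw hw' => ?_
    · rw [dotProduct_smul, smul_eq_mul]
      exact Ideal.mul_mem_right _ _ hc
    · rw [dotProduct_add]
      exact add_mem hw hw'
  let e := ((LinearMap.ker m).liftQ φ hle).comp m.quotKerEquivRange.symm.toLinearMap
  have he : Function.Surjective e := fun y => by
    obtain ⟨v, rfl⟩ := hφ y
    refine ⟨⟨m v, LinearMap.mem_range_self m v⟩, ?_⟩
    exact (congrArg ((LinearMap.ker m).liftQ φ hle)
      (LinearMap.quotKerEquivRange_symm_apply_image m v (LinearMap.mem_range_self m v))).trans rfl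
  refine (Module.length_le_of_surjective e he).trans (le_of_eq ?_)
  refine (LinearEquiv.ofEq _ _ ?_).length_eq
  rw [LinearMap.range_comp, Submodule.range_subtype]

end

end GrothLib.SGA2Para
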