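import Groth.Agent.Lib.SGA2Para.CI
import Groth.Agent.S2823
import Mathlib.RingTheory.Localization.LocalizationLocalization

/-!
# Complete intersections factorial in codimension at most three are factorial
-/

set_option autoImplicit false
set_option linter.style.haveILetI false

universe u

open IsLocalRing RingTheory.Sequence AlgebraicGeometry CategoryTheory

namespace GrothLib.SGA2Para

/-- A localisation of a complete intersection is one. -/
theorem exists_ci_localization (R : Type u) [CommRing R] [IsRegularLocalRing R] (rs : List R)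
    (hw : IsWeaklyRegular R rs) (A : Type u) [CommRing A] (π : R →+* A)
    (hπ : Function.Surjective π) (hker : RingHom.ker π = Ideal.ofList rs) (P : Ideal A) [P.IsPrime] :
    ∃ (R' : Type u) (_ : CommRing R') (_ : IsRegularLocalRing R') (rs' : List R')
      (π' : R' →+* Localization.AtPrime P), (∀ x ∈ rs', x ∈ maximalIdeal R') ∧ IsWeaklyRegular R' rs' ∧
      Function.Surjective π' ∧ RingHom.ker π' = Ideal.ofList rs' := by
  let q : Ideal R := P.comap π
  haveI : IsRegularLocalRing (Localization.AtPrime q) := Groth.Agent.S0564.result R q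
  have hT : Submonoid.map π q.primeCompl = P.primeCompl := by
    refine SetLike.ext fun a => ?_
    constructor
    · rintro ⟨b, hb, rfl⟩
      exact hb
    · intro ha
      obtain ⟨b, rfl⟩ := hπ a
      exact ⟨b, ha, rfl⟩
  haveI : IsLocalization (q.primeCompl.map π) (Localization.AtPrime P) := by
    rw [hT]; infer_instance
  haveI : Module.Flat R (Localization.AtPrime q) := IsLocalization.flat _ q.primeCompl
  refine ⟨Localization.AtPrime q, inferInstance, inferInstance, rs.map (algebraMap R (Localization.AtPrime q)),
    IsLocalization.map (M := q.primeCompl) (T := P.primeCompl) (Localization.AtPrime P) π (fun b hb => hb),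
    ?_, hw.of_flat, IsLocalization.map_surjective_of_surjective _ _ _ hπ, ?_⟩
  · intro y hy
    obtain ⟨z, hz, rfl⟩ := List.mem_map.1 hy
    rw [IsLocalization.AtPrime.to_map_mem_maximal_iff (Localization.AtPrime q) q z]
    show π z ∈ P
    rw [show π z = 0 from RingHom.mem_ker.1 (hker ▸ (Ideal.subset_span hz : z ∈ Ideal.ofList rs))]
    exact zero_mem P
  · rw [← Ideal.map_ofList (algebraMap R (Localization.AtPrime q)) rs, ← hker]
    exact IsLocalization.ker_map (S := Localization.AtPrime q) (Localization.AtPrime P) _ hT

/-- Factoriality passes along isomorphisms. -/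
theorem ufd_of_ringEquiv {A B : Type u} [CommRing A] [CommRing B] (e : A ≃+* B)
    (h : IsDomain A ∧ UniqueFactorizationMonoid A) : IsDomain B ∧ UniqueFactorizationMonoid B := by
  obtain ⟨hd, hu⟩ := h
  haveI : IsDomain B := MulEquiv.isDomain A e.symm.toMulEquiv
  exact ⟨inferInstance, e.toMulEquiv.uniqueFactorizationMonoid hu⟩

/-- Codimension three factoriality gives factoriality, by induction on the dimension. -/
theorem ufd_of_ci_aux : ∀ (n : ℕ) (R : Type u) [CommRing R] [IsRegularLocalRing R] (rs : List R),
    (∀ x ∈ rs, x ∈ maximalIdeal R) → IsWeaklyRegular R rs →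
    ∀ (A : Type u) [CommRing A] [IsLocalRing A] [IsNoetherianRing A] (π : R →+* A),
      Function.Surjective π → RingHom.ker π = Ideal.ofList rs → ringKrullDim A < (n : WithBot ℕ∞) →
      (∀ p : PrimeSpectrum A, ringKrullDim (Localization.AtPrime p.asIdeal) ≤ 3 →
        IsDomain (Localization.AtPrime p.asIdeal) ∧ UniqueFactorizationMonoid (Localization.AtPrime p.asIdeal)) →
      IsDomain A ∧ UniqueFactorizationMonoid A := by
  intro n
  induction n with
  | zero =>
    intro R _ _ rs _ _ A _ _ _ π _ _ hlt
    exact absurd ringKrullDim_nonneg_of_nontrivial (not_le.2 hlt)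
  | succ n ih =>
    intro R _ _ rs hm hw A _ _ _ π hπ hker hlt h
    by_cases h3 : ringKrullDim A ≤ 3
    · let e : A ≃ₐ[A] Localization.AtPrime (maximalIdeal A) :=
        IsLocalization.atUnits A (maximalIdeal A).primeCompl fun x hx => IsLocalRing.notMem_maximalIdeal.1 hx
      refine ufd_of_ringEquiv e.toRingEquiv.symm (h ⟨maximalIdeal A, inferInstance⟩ ?_)
      rwa [← ringKrullDim_eq_of_ringEquiv e.toRingEquiv]
    have hdimA : (4 : WithBot ℕ∞) ≤ ringKrullDim A := by
      obtain ⟨d, hd⟩ := WithBot.ne_bot_iff_exists.1 (ringKrullDim_ne_bot (R := A))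
      rw [← hd] at h3 ⊢
      have h3' : ¬ d ≤ 3 := fun h => h3 (WithBot.coe_le_coe.2 h)
      exact WithBot.coe_le_coe.2 (Order.add_one_le_of_lt (not_le.1 h3'))
    refine (Groth.Agent.S2823.result A (le_trans (by norm_num) hdimA)).2
      ⟨((ParaPair.isParafactorialLocalRing_iff A).1 (isParafactorial_of_ci rs.length R rs rfl hm hw A π hπ hker hdimA)).2,
        le_depth_of_ci R rs hm hw A π hπ hker 2 (le_trans (by norm_num) hdimA), fun y hy => ?_⟩
    let P : Ideal A := y.asIdeal
    haveI : P.IsPrime := y.isPrime
    have hP : P ≠ maximalIdeal A := fun he => hy (PrimeSpectrum.ext he)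
    haveI : IsNoetherianRing (Localization.AtPrime P) :=
      IsLocalization.isNoetherianRing P.primeCompl _ inferInstance
    obtain ⟨R', _, _, rs', π', hm', hw', hπ', hker'⟩ := exists_ci_localization R rs hw A π hπ hker P
    have hdimP : ringKrullDim (Localization.AtPrime P) < (n : WithBot ℕ∞) := by
      rw [IsLocalization.AtPrime.ringKrullDim_eq_height P (Localization.AtPrime P)]
      have h1 := Ideal.height_add_one_le_of_lt_of_isPrime
        (lt_of_le_of_ne (IsLocalRing.le_maximalIdeal (Ideal.IsPrime.ne_top inferInstance)) hP)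
      rw [← IsLocalRing.maximalIdeal_height_eq_ringKrullDim] at hlt
      obtain ⟨a, ha⟩ : ∃ a : ℕ, P.height = a := by
        refine ENat.ne_top_iff_exists.1 (fun htop => ?_) |>.imp fun _ h => h.symm
        rw [htop, top_add, top_le_iff] at h1
        rw [h1] at hlt
        exact not_top_lt (WithBot.coe_lt_coe.1 (lt_of_lt_of_le hlt le_top))
      rw [ha] at h1 ⊢
      have h2 := lt_of_le_of_lt (WithBot.coe_le_coe.2 h1) hlt
      norm_cast at h2 ⊢
      omega
    refine ufd_of_ringEquiv ?_ (ih R' rs' hm' hw' (Localization.AtPrime P) π' hπ' hker' hdimP fun p hp => ?_)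
    · letI : Algebra A ((Spec (CommRingCat.of A)).presheaf.stalk y) := (StructureSheaf.toStalk A y).hom.toAlgebra
      haveI : IsLocalization P.primeCompl ((Spec (CommRingCat.of A)).presheaf.stalk y) :=
        StructureSheaf.IsLocalization.to_stalk A y
      exact (IsLocalization.algEquiv P.primeCompl (Localization.AtPrime P)
        ((Spec (CommRingCat.of A)).presheaf.stalk y)).toRingEquiv
    · let e := (IsLocalization.localizationLocalizationAtPrimeIsoLocalization P.primeCompl p.asIdeal).toRingEquiv
      refine ufd_of_ringEquiv e (h ⟨p.asIdeal.comap (algebraMap A (Localization.AtPrime P)), inferInstance⟩ ?_)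
      exact (ringKrullDim_eq_of_ringEquiv e).le.trans hp

end GrothLib.SGA2Para
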